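/-
Tools for groups without elements whose order is a product of three given primes.
-/
import Cfsg.Agent.Lib.FGS.ThompsonKernel
import Cfsg.Agent.Lib.Solvable.Generation
import Cfsg.Agent.Lib.Solvable.UniqueSubgroup
import Cfsg.Agent.Lib.OddLocal.Basic
import Cfsg.Agent.Lib.Cores.Fitting
import Cfsg.Agent.Lib.Solvable.Fitting
import Cfsg.Agent.Lib.Solvable.Hall
import Cfsg.Agent.Lib.PGroup.Basic
import Cfsg.Agent.Lib.CN.Structure
import Cfsg.Agent.Lib.PGroup.CyclicOrEightConj

set_option autoImplicit false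

namespace CfsgLib.FGS.NoTriangle

open Subgroup
open scoped commutatorElement Pointwise

variable {G : Type*} [Group G]

/-- `x` fixes a nontrivial element of `U`. -/
def Fix (U : Subgroup G) (x : G) : Prop := ∃ u ∈ U, u ≠ 1 ∧ Commute x u

/-- `x` and `y` generate an elementary abelian group of order `r ^ 2`. -/
structure Pair2 (r : ℕ) (x y : G) : Prop where
  ox : orderOf x = r
  oy : orderOf y = r
  comm : Commute x y
  notMem : y ∉ zpowers x

/-- No three pairwise commuting elements of three distinct prime orders from `τ`. -/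
def NoTriple (G : Type*) [Group G] (τ : Finset ℕ) : Prop :=
  ∀ p ∈ τ, ∀ q ∈ τ, ∀ r ∈ τ, p ≠ q → q ≠ r → p ≠ r → ∀ x y w : G,
    orderOf x = p → orderOf y = q → orderOf w = r → Commute x y → Commute y w → Commute x w → False

variable [Finite G]

theorem exists_prime_order_power {r : ℕ} [Fact r.Prime] {U : Subgroup G} (hU : IsPGroup r U) {x u : G}
    (hu : u ∈ U) (hu1 : u ≠ 1) (hxu : Commute x u) : ∃ w ∈ U, orderOf w = r ∧ Commute x w := by
  obtain ⟨k, hk⟩ := IsPGroup.iff_orderOf.1 hU ⟨u, hu⟩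
  rw [Subgroup.orderOf_mk] at hk
  have hk0 : k ≠ 0 := by
    rintro rfl
    exact hu1 (orderOf_eq_one_iff.1 (by simpa using hk))
  refine ⟨u ^ (r ^ (k - 1)), pow_mem hu _, ?_, hxu.pow_right _⟩
  rw [orderOf_pow' _ (pow_ne_zero _ (Fact.out : r.Prime).ne_zero), hk,
    Nat.gcd_eq_right (pow_dvd_pow r (k.sub_le 1))]
  conv_lhs => rw [show k = k - 1 + 1 by omega, pow_succ, Nat.add_sub_cancel]
  rw [Nat.mul_div_cancel_left _ (pow_pos (Fact.out : r.Prime).pos _)]

theorem Fix.exists_prime {r : ℕ} [Fact r.Prime] {U : Subgroup G} (hU : IsPGroup r U) {x : G}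
    (h : Fix U x) : ∃ w ∈ U, orderOf w = r ∧ Commute x w := by
  obtain ⟨u, hu, hu1, hxu⟩ := h
  exact exists_prime_order_power hU hu hu1 hxu

theorem inf_eq_bot_of_ne {q r : ℕ} [hq : Fact q.Prime] [hr : Fact r.Prime] (h : q ≠ r) {U R : Subgroup G}
    (hU : IsPGroup q U) (hR : IsPGroup r R) : U ⊓ R = ⊥ :=
  (IsPGroup.disjoint_of_ne q r h U R hU hR).eq_bot

theorem orderOf_coprime {q r : ℕ} [hq : Fact q.Prime] [hr : Fact r.Prime] (h : q ≠ r) {U R : Subgroup G}
    (hU : IsPGroup q U) (hR : IsPGroup r R) {u v : G} (hu : u ∈ U) (hv : v ∈ R) :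
    (orderOf u).Coprime (orderOf v) := by
  obtain ⟨i, hi⟩ := IsPGroup.iff_orderOf.1 hU ⟨u, hu⟩
  obtain ⟨j, hj⟩ := IsPGroup.iff_orderOf.1 hR ⟨v, hv⟩
  rw [Subgroup.orderOf_mk] at hi hj
  rw [hi, hj]
  exact Nat.Coprime.pow _ _ ((Nat.coprime_primes hq.out hr.out).2 h)

theorem mem_normalizer_sup {U R : Subgroup G} {b : G} (hU : b ∈ normalizer (U : Set G))
    (hR : b ∈ normalizer (R : Set G)) : b ∈ normalizer ((U ⊔ R : Subgroup G) : Set G) := by
  have hm : ∀ {X : Subgroup G}, b ∈ normalizer (X : Set G) → ∀ x ∈ X, b * x * b⁻¹ ∈ X := fun h x hx =>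
    (mem_normalizer_iff.1 h x).1 hx
  refine mem_normalizer_fintype (S := ((U ⊔ R : Subgroup G) : Set G)) fun x hx => ?_
  have : (U ⊔ R).map (MulAut.conj b).toMonoidHom ≤ U ⊔ R := by
    rw [Subgroup.map_sup]
    refine sup_le ?_ ?_
    · rintro _ ⟨z, hz, rfl⟩; exact mem_sup_left (hm hU z hz)
    · rintro _ ⟨z, hz, rfl⟩; exact mem_sup_right (hm hR z hz)
  exact this ⟨x, hx, rfl⟩

theorem mem_normalizer_inf_centralizer {U : Subgroup G} {a x : G} (ha : a ∈ normalizer (U : Set G))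
    (hax : Commute a x) : a ∈ normalizer ((U ⊓ centralizer ({x} : Set G) : Subgroup G) : Set G) := by
  refine mem_normalizer_fintype (S := ((U ⊓ centralizer ({x} : Set G) : Subgroup G) : Set G)) fun u hu => ?_
  refine ⟨(mem_normalizer_iff.1 ha u).1 hu.1, mem_centralizer_singleton_iff.2 ?_⟩
  have h1 : Commute u x := mem_centralizer_singleton_iff.1 hu.2
  exact (hax.mul_left h1).mul_left hax.inv_left

/-- An element of prime order acting without fixed points on two coprime subgroups, one normalising the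
other, forces them to commute. -/
theorem commute_of_fpf {q r s : ℕ} [hq : Fact q.Prime] [hr : Fact r.Prime] [hs : Fact s.Prime] (hqr : q ≠ r)
    {U R : Subgroup G} (hU : IsPGroup q U) (hR : IsPGroup r R) (hRU : R ≤ normalizer (U : Set G))
    {b : G} (hb : orderOf b = s) (hbU : b ∈ normalizer (U : Set G)) (hbR : b ∈ normalizer (R : Set G))
    (hfU : ¬ Fix U b) (hfR : ¬ Fix R b) {u v : G} (hu : u ∈ U) (hv : v ∈ R) : u * v = v * u := by
  set X := U ⊔ R with hX
  set W := normalizer (X : Set G) with hW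
  have hXW : X ≤ W := le_normalizer
  haveI : (X.subgroupOf W).Normal := normal_in_normalizer
  have hbW : b ∈ W := mem_normalizer_sup hbU hbR
  have hfix : ∀ x ∈ X, x * b = b * x → x = 1 := by
    intro x hx hxb
    have hx' : x ∈ (U : Set G) * (R : Set G) := by
      rw [← coe_mul_of_right_le_normalizer_left U R hRU]; exact hx
    obtain ⟨u', hu', v', hv', rfl⟩ := hx'
    have h1 : b * u' * b⁻¹ ∈ U := (mem_normalizer_iff.1 hbU u').1 hu'
    have h2 : b * v' * b⁻¹ ∈ R := (mem_normalizer_iff.1 hbR v').1 hv'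
    have h3 : (b * u' * b⁻¹) * (b * v' * b⁻¹) = u' * v' := by
      have e : (b * u' * b⁻¹) * (b * v' * b⁻¹) = b * (u' * v') * b⁻¹ := by group
      rw [e, ← hxb, mul_inv_cancel_right]
    have h4 := Subgroup.mul_injective_of_disjoint (disjoint_iff.2 (inf_eq_bot_of_ne hqr hU hR))
      (a₁ := (⟨_, h1⟩, ⟨_, h2⟩)) (a₂ := (⟨u', hu'⟩, ⟨v', hv'⟩)) h3
    have e1 : Commute b u' := mul_inv_eq_iff_eq_mul.1 (congrArg (fun z : U × R => (z.1 : G)) h4)
    have e2 : Commute b v' := mul_inv_eq_iff_eq_mul.1 (congrArg (fun z : U × R => (z.2 : G)) h4)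
    have hu1 : u' = 1 := by_contra fun h => hfU ⟨u', hu', h, e1⟩
    have hv1 : v' = 1 := by_contra fun h => hfR ⟨v', hv', h, e2⟩
    simp [hu1, hv1]
  have hnil : Group.IsNilpotent (X.subgroupOf W) :=
    CfsgLib.FGS.isNilpotent_of_fpf_element (X.subgroupOf W) hs.out (h := (⟨b, hbW⟩ : W))
      ((Subgroup.orderOf_mk b hbW).trans hb)
      fun n hn hc => Subtype.ext (hfix n hn (congrArg Subtype.val hc))
  haveI := hnil
  have hnil' : Group.IsNilpotent X := Group.nilpotent_of_mulEquiv (subgroupOfEquivOfLe hXW)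
  exact OddLocal.commute_of_mem_nilpotent hnil' (mem_sup_left hu) (mem_sup_right hv)
    (orderOf_coprime hqr hU hR hu hv)

theorem eq_one_of_pow_commute {r s : ℕ} [hr : Fact r.Prime] [hs : Fact s.Prime] (hrs : r ≠ s)
    {Y : Subgroup G} (hY : IsPGroup r Y) {b w : G} (hb : orderOf b = s) (hw : w ∈ Y) (hbw : Commute w b)
    {y : G} (hy : b * y * b⁻¹ = w * y) : w = 1 := by
  have key : ∀ n : ℕ, b ^ n * y * (b ^ n)⁻¹ = w ^ n * y := by
    intro n
    induction n with
    | zero => simp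
    | succ n ih =>
      have e : b ^ (n + 1) * y * (b ^ (n + 1))⁻¹ = b * (b ^ n * y * (b ^ n)⁻¹) * b⁻¹ := by
        rw [pow_succ']; group
      have e2 : b * (w ^ n * y) * b⁻¹ = (b * w ^ n) * y * b⁻¹ := by group
      rw [e, ih, e2, ← (hbw.pow_left n).eq, pow_succ]
      calc w ^ n * b * y * b⁻¹ = w ^ n * (b * y * b⁻¹) := by group
        _ = w ^ n * (w * y) := by rw [hy]
        _ = w ^ n * w * y := by group
  have h := key s
  rw [← hb, pow_orderOf_eq_one, one_mul, inv_one, mul_one, right_eq_mul, hb] at h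
  obtain ⟨j, hj⟩ := IsPGroup.iff_orderOf.1 hY ⟨w, hw⟩
  rw [Subgroup.orderOf_mk] at hj
  have hd := orderOf_dvd_of_pow_eq_one h
  rw [hj] at hd
  rw [← orderOf_eq_one_iff, hj]
  exact Nat.eq_one_of_dvd_coprimes (Nat.Coprime.pow_left j ((Nat.coprime_primes hr.out hs.out).2 hrs))
    dvd_rfl hd

/-- The group of commutators of an element with an abelian subgroup it normalises. -/
theorem exists_comm_group {Y : Subgroup G} (hYc : ∀ x ∈ Y, ∀ y ∈ Y, x * y = y * x) {b : G}
    (hb : b ∈ normalizer (Y : Set G)) :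
    ∃ D : Subgroup G, D ≤ Y ∧ b ∈ normalizer (D : Set G) ∧ (∀ y ∈ Y, ⁅b, y⁆ ∈ D) ∧
      ∀ d ∈ D, ∃ y ∈ Y, b * y * b⁻¹ = d * y := by
  have hmem : ∀ y ∈ Y, ⁅b, y⁆ ∈ Y := fun y hy => by
    rw [commutatorElement_def]; exact mul_mem ((mem_normalizer_iff.1 hb y).1 hy) (inv_mem hy)
  let δ : Y →* G := MonoidHom.mk' (fun y => ⁅b, (y : G)⁆) fun y z => by
    rw [Subgroup.coe_mul]
    have h1 := hYc _ (hmem z z.2) _ y.2
    calc ⁅b, (y : G) * z⁆ = ⁅b, (y : G)⁆ * (y * ⁅b, (z : G)⁆ * (y : G)⁻¹) := by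
          simp only [commutatorElement_def]; group
      _ = ⁅b, (y : G)⁆ * ⁅b, (z : G)⁆ := by rw [← h1, mul_inv_cancel_right]
  refine ⟨δ.range, ?_, ?_, fun y hy => ⟨⟨y, hy⟩, rfl⟩, ?_⟩
  · rintro _ ⟨y, rfl⟩; exact hmem y y.2
  · refine mem_normalizer_fintype (S := (δ.range : Set G)) ?_
    rintro _ ⟨y, rfl⟩
    refine ⟨⟨b * y * b⁻¹, (mem_normalizer_iff.1 hb _).1 y.2⟩, ?_⟩
    change ⁅b, b * (y : G) * b⁻¹⁆ = b * ⁅b, (y : G)⁆ * b⁻¹
    simp only [commutatorElement_def]; group
  · rintro _ ⟨y, rfl⟩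
    refine ⟨y, y.2, ?_⟩
    change _ = ⁅b, (y : G)⁆ * y
    rw [commutatorElement_def]; group

/-- An element of prime order without fixed points on `U` pushes an abelian coprime subgroup into the
centraliser of `U`. -/
theorem commutator_centralizes {q r s : ℕ} [hq : Fact q.Prime] [hr : Fact r.Prime] [hs : Fact s.Prime]
    (hqr : q ≠ r) (hrs : r ≠ s) {U Y : Subgroup G} (hU : IsPGroup q U) (hY : IsPGroup r Y)
    (hYc : ∀ x ∈ Y, ∀ y ∈ Y, x * y = y * x) (hYU : Y ≤ normalizer (U : Set G)) {b : G} (hb : orderOf b = s)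
    (hbU : b ∈ normalizer (U : Set G)) (hbY : b ∈ normalizer (Y : Set G)) (hfU : ¬ Fix U b)
    {y u : G} (hy : y ∈ Y) (hu : u ∈ U) : u * ⁅b, y⁆ = ⁅b, y⁆ * u := by
  obtain ⟨D, hDY, hbD, hmem, hrep⟩ := exists_comm_group hYc hbY
  refine commute_of_fpf hqr hU (hY.to_le hDY) (hDY.trans hYU) hb hbU hbD hfU ?_ hu (hmem y hy)
  rintro ⟨d, hd, hd1, hdb⟩
  obtain ⟨y', -, hy'⟩ := hrep d hd
  exact hd1 (eq_one_of_pow_commute hrs hY hb (hDY hd) hdb.symm hy')

/-- A coprime element fixing the subgroup of order `r` of a cyclic `r`-group fixes it all. -/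
theorem commute_of_cyclic {r s : ℕ} [hr : Fact r.Prime] [hs : Fact s.Prime] (hrs : r ≠ s) {X : Subgroup G}
    (hX : IsPGroup r X) (hXc : IsCyclic X) {b : G} (hb : orderOf b = s) (hbX : b ∈ normalizer (X : Set G))
    {a : G} (ha : a ∈ X) (hao : orderOf a = r) (hba : Commute b a) : ∀ x ∈ X, Commute b x := by
  have hXcom : ∀ x ∈ X, ∀ y ∈ X, x * y = y * x := fun x hx y hy => by
    obtain ⟨g, hg⟩ := hXc.exists_generator
    obtain ⟨i, hi⟩ := hg ⟨x, hx⟩
    obtain ⟨j, hj⟩ := hg ⟨y, hy⟩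
    have := (Commute.zpow_zpow (Commute.refl g) i j).eq
    simp only [] at hi hj
    rw [hi, hj] at this
    exact congrArg Subtype.val this
  obtain ⟨D, hDX, -, hmem, hrep⟩ := exists_comm_group hXcom hbX
  have hno : ¬ Fix D b := by
    rintro ⟨d, hd, hd1, hdb⟩
    obtain ⟨y', -, hy'⟩ := hrep d hd
    exact hd1 (eq_one_of_pow_commute hrs hX hb (hDX hd) hdb.symm hy')
  intro x hx
  by_contra hne
  have hd1 : ⁅b, x⁆ ≠ 1 := fun h => hne (commutatorElement_eq_one_iff_mul_comm.1 h)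
  obtain ⟨d, hd, hdo, -⟩ := exists_prime_order_power (hX.to_le hDX) (hmem x hx) hd1 (Commute.one_left _)
  refine hno ⟨d, hd, fun e => ?_, ?_⟩
  · rw [e, orderOf_one] at hdo; exact hr.out.one_lt.ne hdo
  have hz : zpowers d = zpowers a := by
    exact PGroup.ConjAb.eq_of_card_eq_of_le_cyclic hXc (zpowers_le.2 (hDX hd)) (zpowers_le.2 ha)
      (by rw [Nat.card_zpowers, Nat.card_zpowers, hdo, hao])
  obtain ⟨i, hi⟩ := mem_zpowers_iff.1 (hz ▸ mem_zpowers d)
  exact hi ▸ hba.zpow_right i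

theorem isPGroup_of_forall {r : ℕ} {X : Subgroup G} (h : ∀ x ∈ X, ∃ k : ℕ, x ^ r ^ k = 1) : IsPGroup r X :=
  fun x => (h x x.2).imp fun _ hk => Subtype.ext (by simpa using hk)

theorem Pair2.closure_props {r : ℕ} [hr : Fact r.Prime] {x y : G} (h : Pair2 r x y) :
    (∀ u ∈ closure ({x, y} : Set G), ∀ v ∈ closure ({x, y} : Set G), u * v = v * u) ∧
      (∀ u ∈ closure ({x, y} : Set G), u ^ r = 1) ∧ ¬ IsCyclic (closure ({x, y} : Set G)) ∧
      IsPGroup r (closure ({x, y} : Set G)) := by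
  have hc : ∀ u ∈ closure ({x, y} : Set G), ∀ v ∈ closure ({x, y} : Set G), u * v = v * u := by
    have h1 : closure ({x, y} : Set G) ≤ centralizer (closure ({x, y} : Set G) : Set G) := by
      rw [closure_le, centralizer_closure]
      rintro u (rfl | rfl) <;> rintro v (rfl | rfl)
      · rfl
      · exact h.comm.symm.eq
      · exact h.comm.eq
      · rfl
    exact fun u hu v hv => (mem_centralizer_iff.1 (h1 hv) u hu)
  have hp : ∀ u ∈ closure ({x, y} : Set G), u ^ r = 1 := by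
    intro u hu
    induction hu using closure_induction with
    | mem u hu =>
      rcases hu with rfl | rfl
      · rw [← h.ox]; exact pow_orderOf_eq_one _
      · rw [← h.oy]; exact pow_orderOf_eq_one _
    | one => exact one_pow r
    | mul u v hu hv ihu ihv => rw [(show Commute u v from hc u hu v hv).mul_pow, ihu, ihv, one_mul]
    | inv u _ ih => rw [inv_pow, ih, inv_one]
  refine ⟨hc, hp, fun hcyc => ?_, isPGroup_of_forall fun u hu => ⟨1, by rw [pow_one]; exact hp u hu⟩⟩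
  obtain ⟨⟨g, hg⟩, hgen⟩ := hcyc.exists_generator
  have hle : closure ({x, y} : Set G) ≤ zpowers g := fun u hu => by
    obtain ⟨i, hi⟩ := hgen ⟨u, hu⟩
    exact ⟨i, congrArg Subtype.val hi⟩
  have hgo : orderOf g ≤ r := Nat.le_of_dvd hr.out.pos (orderOf_dvd_of_pow_eq_one (hp g hg))
  have hx : zpowers x = zpowers g := eq_of_le_of_card_ge (zpowers_le.2 (hle (subset_closure (Or.inl rfl))))
    (by rw [Nat.card_zpowers, Nat.card_zpowers, h.ox]; exact hgo)
  exact h.notMem (hx ▸ hle (subset_closure (Or.inr rfl)))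

theorem Pair2.mem_of_mem {r : ℕ} {x y : G} (_h : Pair2 r x y) {K : Subgroup G} (hx : x ∈ K) (hy : y ∈ K)
    {e : G} (he : e ∈ closure ({x, y} : Set G)) : e ∈ K :=
  (closure_le K).2 (by rintro u (rfl | rfl) <;> assumption) he

theorem Pair2.commute_of_commute {r : ℕ} {x y : G} (h : Pair2 r x y) {w : G} (hx : Commute w x)
    (hy : Commute w y) {e : G} (he : e ∈ closure ({x, y} : Set G)) : Commute w e :=
  (mem_centralizer_singleton_iff.1 (h.mem_of_mem (K := centralizer ({w} : Set G))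
    (mem_centralizer_singleton_iff.2 hx.symm.eq) (mem_centralizer_singleton_iff.2 hy.symm.eq) he) :
      e * w = w * e).symm

/-- A noncyclic group acting coprimely on a nontrivial group has an element with a fixed point. -/
theorem Pair2.exists_fix {r q : ℕ} [hr : Fact r.Prime] [hq : Fact q.Prime] (hqr : q ≠ r) {x y : G}
    (h : Pair2 r x y) {U : Subgroup G} (hU : IsPGroup q U) (hU1 : U ≠ ⊥) (hx : x ∈ normalizer (U : Set G))
    (hy : y ∈ normalizer (U : Set G)) : ∃ e ∈ closure ({x, y} : Set G), orderOf e = r ∧ Fix U e := by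
  obtain ⟨hc, hp, hnc, hpg⟩ := h.closure_props
  have hgen := Solvable.iSup_centralizer_eq hc hnc ((closure_le _).2 (by rintro u (rfl | rfl) <;> assumption))
    (by
      obtain ⟨i, hi⟩ := hpg.exists_card_eq
      obtain ⟨j, hj⟩ := hU.exists_card_eq
      rw [hi, hj]
      exact Nat.Coprime.pow _ _ ((Nat.coprime_primes hr.out hq.out).2 hqr.symm))
  by_contra hno
  push Not at hno
  apply hU1
  rw [eq_bot_iff, ← hgen]
  refine iSup₂_le fun e he u hu => ?_
  rw [mem_bot]
  by_contra hu1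
  exact hno e he.1 (orderOf_eq_prime (hp e he.1) he.2)
    ⟨u, hu.1, hu1, (mem_centralizer_singleton_iff.1 hu.2).symm⟩

/-- Generation by the centralisers of a noncyclic group. -/
theorem Pair2.le_centralizer {r q : ℕ} [hr : Fact r.Prime] [hq : Fact q.Prime] (hqr : q ≠ r) {x y : G}
    (h : Pair2 r x y) {R : Subgroup G} (hR : IsPGroup q R) (hx : x ∈ normalizer (R : Set G))
    (hy : y ∈ normalizer (R : Set G)) {b : G}
    (hb : ∀ e ∈ closure ({x, y} : Set G), orderOf e = r → ∀ v ∈ R ⊓ centralizer ({e} : Set G), Commute b v) :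
    ∀ v ∈ R, Commute b v := by
  obtain ⟨hc, hp, hnc, hpg⟩ := h.closure_props
  have hgen := Solvable.iSup_centralizer_eq hc hnc ((closure_le _).2 (by rintro u (rfl | rfl) <;> assumption))
    (by
      obtain ⟨i, hi⟩ := hpg.exists_card_eq
      obtain ⟨j, hj⟩ := hR.exists_card_eq
      rw [hi, hj]
      exact Nat.Coprime.pow _ _ ((Nat.coprime_primes hr.out hq.out).2 hqr.symm))
  intro v hv
  rw [← hgen] at hv
  have : v ∈ centralizer ({b} : Set G) := (iSup₂_le fun e he w hw => mem_centralizer_singleton_iff.2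
    (hb e he.1 (orderOf_eq_prime (hp e he.1) he.2) w hw).symm.eq :
      (⨆ e ∈ {e : G | e ∈ closure ({x, y} : Set G) ∧ e ≠ 1}, R ⊓ centralizer ({e} : Set G)) ≤ _) hv
  exact (mem_centralizer_singleton_iff.1 this).symm

/-- The elements of `Z(R)` killed by `r`. -/
def omegaZ (r : ℕ) (R : Subgroup G) : Subgroup G where
  carrier := {x | x ∈ R ∧ x ^ r = 1 ∧ ∀ y ∈ R, x * y = y * x}
  one_mem' := ⟨R.one_mem, one_pow r, fun y _ => by simp⟩
  mul_mem' := by
    rintro u v ⟨hu, hu', hu''⟩ ⟨hv, hv', hv''⟩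
    refine ⟨R.mul_mem hu hv, ?_, fun y hy => ?_⟩
    · rw [(show Commute u v from hu'' v hv).mul_pow, hu', hv', one_mul]
    · exact ((show Commute u y from hu'' y hy).mul_left (hv'' y hy)).eq
  inv_mem' := by
    rintro u ⟨hu, hu', hu''⟩
    exact ⟨R.inv_mem hu, by rw [inv_pow, hu', inv_one], fun y hy => ((show Commute u y from hu'' y hy).inv_left).eq⟩

omit [Finite G] in
theorem omegaZ_le (r : ℕ) (R : Subgroup G) : omegaZ r R ≤ R := fun _ hx => hx.1

omit [Finite G] in
theorem mem_normalizer_omegaZ (r : ℕ) (R : Subgroup G) [Finite G] {g : G} (hg : g ∈ normalizer (R : Set G)) :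
    g ∈ normalizer (omegaZ r R : Set G) := by
  refine mem_normalizer_fintype (S := (omegaZ r R : Set G)) ?_
  rintro x ⟨hx, hx', hx''⟩
  refine ⟨(mem_normalizer_iff.1 hg x).1 hx, by rw [conj_pow, hx', mul_one, mul_inv_cancel], fun y hy => ?_⟩
  have hy' : g⁻¹ * y * g ∈ R := by simpa using (mem_normalizer_iff.1 (inv_mem hg) y).1 hy
  calc g * x * g⁻¹ * y = g * (x * (g⁻¹ * y * g)) * g⁻¹ := by group
    _ = g * ((g⁻¹ * y * g) * x) * g⁻¹ := by rw [hx'' _ hy']
    _ = y * (g * x * g⁻¹) := by group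

theorem exists_omegaZ {r : ℕ} [hr : Fact r.Prime] {R : Subgroup G} (hR : IsPGroup r R) (hR1 : R ≠ ⊥) :
    ∃ a ∈ omegaZ r R, orderOf a = r := by
  haveI : Nontrivial R := (nontrivial_iff_ne_bot R).2 hR1
  haveI := hR.center_nontrivial
  obtain ⟨z, hz⟩ := exists_ne (1 : center R)
  have hz1 : ((z : R) : G) ≠ 1 := fun e => hz (Subtype.ext (Subtype.ext e))
  obtain ⟨w, hw, hwo, -⟩ := exists_prime_order_power (U := (center R).map R.subtype)
    ((hR.to_subgroup _).map _) (mem_map_of_mem _ z.2) hz1 (Commute.one_left _)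
  obtain ⟨w', hw', rfl⟩ := hw
  exact ⟨_, ⟨w'.2, hwo ▸ pow_orderOf_eq_one _, fun y hy =>
    (congrArg Subtype.val (mem_center_iff.1 hw' ⟨y, hy⟩)).symm⟩, hwo⟩

/-- A normal subgroup of prime order is centralised by elements of larger prime order. -/
theorem commute_of_prime_lt {r s : ℕ} [hr : Fact r.Prime] [hs : Fact s.Prime] (hlt : s < r) {z e : G}
    (hz : orderOf z = s) (he : orderOf e = r) (hn : e ∈ normalizer (zpowers z : Set G)) : Commute e z := by
  obtain ⟨i, hi⟩ := mem_zpowers_iff.1 ((mem_normalizer_iff.1 hn z).1 (mem_zpowers z))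
  -- the orbit of `z` under `e` has length dividing `r` and at most `s - 1`
  let c : MulAut G := MulAut.conj e
  have hc : c ^ r = 1 := by rw [← map_pow, ← he, pow_orderOf_eq_one, map_one]
  by_contra hne
  have hne' : c z ≠ z := fun h => hne (mul_inv_eq_iff_eq_mul.1 h)
  have hmem : ∀ n : ℕ, (c ^ n) z ∈ zpowers z := by
    intro n
    induction n with
    | zero => exact mem_zpowers z
    | succ n ih =>
      rw [pow_succ', MulAut.mul_apply]
      obtain ⟨j, hj⟩ := mem_zpowers_iff.1 ih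
      rw [← hj, map_zpow]
      refine zpow_mem ?_ j
      change e * z * e⁻¹ ∈ zpowers z
      rw [← hi]
      exact zpow_mem (mem_zpowers z) i
  have hinj : Function.Injective fun n : Fin r => (⟨(c ^ (n : ℕ)) z, hmem n⟩ : zpowers z) := by
    intro m n hmn
    have h := congrArg Subtype.val hmn
    simp only at h
    by_contra hmn'
    wlog hlt' : (m : ℕ) < n generalizing m n
    · exact this hmn.symm h.symm (Ne.symm hmn') (lt_of_le_of_ne (not_lt.1 hlt') fun e => hmn' (Fin.ext e.symm))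
    have h1 : (c ^ ((n : ℕ) - m)) z = z := by
      have h2 : (c ^ (m : ℕ)) ((c ^ ((n : ℕ) - m)) z) = (c ^ (m : ℕ)) z := by
        rw [← MulAut.mul_apply, ← pow_add, Nat.add_sub_cancel' hlt'.le, h]
      exact (c ^ (m : ℕ)).injective h2
    apply hne'
    have hcop : ((n : ℕ) - m).Coprime r := by
      rw [Nat.coprime_comm, hr.out.coprime_iff_not_dvd]
      exact fun hd => absurd (Nat.le_of_dvd (by omega) hd) (by have := n.2; omega)
    obtain ⟨k, -, hk⟩ := Nat.exists_mul_mod_eq_one_of_coprime hcop hr.out.one_lt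
    have hit : ∀ j : ℕ, ((c ^ ((n : ℕ) - m)) ^ j) z = z := by
      intro j
      induction j with
      | zero => rfl
      | succ j ih => rw [pow_succ, MulAut.mul_apply, h1, ih]
    have := hit k
    rwa [← pow_mul, pow_eq_pow_mod _ hc, hk, pow_one] at this
  have hcard := Nat.card_le_card_of_injective _ hinj
  rw [Nat.card_eq_fintype_card, Fintype.card_fin, Nat.card_zpowers, hz] at hcard
  omega

/-- In an `r`-group with a noncentral element of order `r` and only one central subgroup of order `r`,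
some element of order `r` is conjugate to all its multiples by the central ones. -/
theorem exists_conj_translates {r : ℕ} [hr : Fact r.Prime] {R : Subgroup G} (hR : IsPGroup r R) {a x : G}
    (ha : a ∈ omegaZ r R) (hao : orderOf a = r) (hcyc : omegaZ r R ≤ zpowers a)
    (hx : x ∈ R) (hxo : orderOf x = r) (hxa : x ∉ zpowers a) :
    ∃ f ∈ R, Pair2 r a f ∧ ∀ m : ℤ, ∃ y ∈ R, y * f * y⁻¹ = a ^ m * f := by
  classical
  have hxn : ∃ y ∈ R, ¬ Commute x y := by
    by_contra h
    push Not at h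
    exact hxa (hcyc ⟨hx, hxo ▸ pow_orderOf_eq_one _, fun y hy => (h y hy).eq⟩)
  obtain ⟨f, ⟨hfR, hfp, hfn⟩, hmax⟩ := Set.exists_max_image
    {f : G | f ∈ R ∧ f ^ r = 1 ∧ ∃ y ∈ R, ¬ Commute f y}
    (fun f => Nat.card ↥(R ⊓ centralizer ({f} : Set G))) (Set.toFinite _)
    ⟨x, hx, hxo ▸ pow_orderOf_eq_one _, hxn⟩
  set C := R ⊓ centralizer ({f} : Set G) with hC
  have hCR : C < R := by
    refine lt_of_le_of_ne inf_le_left fun e => ?_
    obtain ⟨y, hy, hfy⟩ := hfn
    exact hfy (mem_centralizer_singleton_iff.1 ((e.symm ▸ hy : y ∈ C)).2).symm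
  obtain ⟨y, hyR, hyC, hyn⟩ : ∃ y ∈ R, y ∉ C ∧ y ∈ normalizer (C : Set G) := by
    have hlt : C.subgroupOf R < ⊤ := by
      rw [lt_top_iff_ne_top]
      exact fun h => hCR.not_ge (subgroupOf_eq_top.1 h)
    haveI := hR.isNilpotent
    have h1 := Group.normalizerCondition_of_isNilpotent (G := R) _ hlt
    obtain ⟨y, hy, hyn⟩ := SetLike.exists_of_lt h1
    refine ⟨y, y.2, fun h => hyn h, ?_⟩
    refine mem_normalizer_fintype (S := (C : Set G)) fun c hc => ?_
    exact (mem_normalizer_iff.1 hy ⟨c, hc.1⟩).1 hc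
  set D := omegaZ r C with hD
  have hfD : f ∈ D := ⟨⟨hfR, mem_centralizer_singleton_iff.2 rfl⟩, hfp,
    fun c hc => (mem_centralizer_singleton_iff.1 hc.2).symm⟩
  have hyD : y ∈ normalizer (D : Set G) := mem_normalizer_omegaZ r C hyn
  have hδ : ∀ d ∈ D, ⁅y, d⁆ ∈ D := fun d hd => by
    rw [commutatorElement_def]; exact mul_mem ((mem_normalizer_iff.1 hyD d).1 hd) (inv_mem hd)
  -- iterated commutators reach `1`
  let it : ℕ → G := fun n => (fun d => ⁅y, d⁆)^[n] f
  have hit : ∀ n, it n ∈ D := by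
    intro n
    induction n with
    | zero => exact hfD
    | succ n ih => simp only [it, Function.iterate_succ_apply']; exact hδ _ ih
  have hend : ∃ n, it n = 1 := by
    haveI := hR.isNilpotent
    obtain ⟨n, hn⟩ := Subgroup.nilpotent_iff_lowerCentralSeries.1 (inferInstance : Group.IsNilpotent R)
    refine ⟨n, ?_⟩
    have hkey : ∀ k, ∃ z ∈ Subgroup.lowerCentralSeries (⊤ : Subgroup R) k, (z : G) = it k := by
      intro k
      induction k with
      | zero => exact ⟨⟨f, hfR⟩, by simp, rfl⟩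
      | succ k ih =>
        obtain ⟨z, hz, hze⟩ := ih
        refine ⟨⁅(⟨y, hyR⟩ : R), z⁆, ?_, ?_⟩
        · have h1 : ⁅z, (⟨y, hyR⟩ : R)⁆ ∈ Subgroup.lowerCentralSeries (⊤ : Subgroup R) (k + 1) :=
            commutator_mem_commutator hz (mem_top _)
          rw [← commutatorElement_inv] at h1
          exact inv_mem_iff.1 h1
        · simp only [it, Function.iterate_succ_apply']
          change _ = ⁅y, it k⁆
          rw [← hze]; rfl
    obtain ⟨z, hz, hze⟩ := hkey n
    rw [hn, mem_bot] at hz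
    rw [← hze, hz]; rfl
  have h0 : ¬ ⁅y, f⁆ = 1 := fun h => hyC ⟨hyR, mem_centralizer_singleton_iff.2
    (commutatorElement_eq_one_iff_mul_comm.1 h)⟩
  have hex : ∃ n, ⁅y, it n⁆ ≠ 1 ∧ ⁅y, it (n + 1)⁆ = 1 := by
    obtain ⟨n, hn⟩ := hend
    by_contra hh
    push Not at hh
    have : ∀ k, ⁅y, it k⁆ ≠ 1 := by
      intro k
      induction k with
      | zero => exact h0
      | succ k ih => exact hh k ih
    exact this n (by rw [hn]; exact commutatorElement_one_right y)
  obtain ⟨n, hn, hn'⟩ := hex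
  set f' := it n
  set g := ⁅y, f'⁆ with hg
  have hit1 : it (n + 1) = g := Function.iterate_succ_apply' _ n f
  rw [hit1] at hn'
  have hgD : g ∈ D := hδ _ (hit n)
  -- `g` is central
  have hgz : g ∈ omegaZ r R := by
    refine ⟨hgD.1.1, hgD.2.1, fun w hw => ?_⟩
    by_contra hgw
    have hcase : g ∈ {f : G | f ∈ R ∧ f ^ r = 1 ∧ ∃ y ∈ R, ¬ Commute f y} :=
      ⟨hgD.1.1, hgD.2.1, w, hw, hgw⟩
    have h1 := hmax g hcase
    have hlt : C < R ⊓ centralizer ({g} : Set G) := by
      refine lt_of_le_of_ne (fun c hc => ⟨hc.1, mem_centralizer_singleton_iff.2 (hgD.2.2 c hc).symm⟩) fun e => hyC ?_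
      rw [e]
      exact ⟨hyR, mem_centralizer_singleton_iff.2 (commutatorElement_eq_one_iff_mul_comm.1 hn')⟩
    exact hlt.ne (eq_of_le_of_card_ge hlt.le h1)
  have hgo : orderOf g = r := orderOf_eq_prime hgD.2.1 hn
  have hzg : zpowers g = zpowers a := eq_of_le_of_card_ge (zpowers_le.2 (hcyc hgz))
    (by rw [Nat.card_zpowers, Nat.card_zpowers, hgo, hao])
  have hf'o : orderOf f' = r := orderOf_eq_prime (hit n).2.1 fun e => hn (by rw [hg, e, commutatorElement_one_right])
  have hyg : Commute y g := commutatorElement_eq_one_iff_mul_comm.1 hn'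
  refine ⟨f', (hit n).1.1, ⟨hao, hf'o, ha.2.2 f' (hit n).1.1, fun h => hn ?_⟩, fun m => ?_⟩
  · obtain ⟨i, hi⟩ := mem_zpowers_iff.1 h
    rw [hg, ← hi, commutatorElement_eq_one_iff_mul_comm]
    exact ((show Commute a y from ha.2.2 y hyR).symm.zpow_right i).eq
  obtain ⟨i, hi⟩ := mem_zpowers_iff.1 (hzg.symm ▸ zpow_mem (mem_zpowers a) m : a ^ m ∈ zpowers g)
  refine ⟨y ^ i, zpow_mem hyR i, ?_⟩
  have hbase : MulAut.conj y f' = g * f' := by
    simp only [MulAut.conj_apply, hg, commutatorElement_def]; group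
  have hfix : MulAut.conj y g = g := by rw [MulAut.conj_apply, hyg.eq, mul_inv_cancel_right]
  have hpow : ∀ k : ℤ, MulAut.conj (y ^ k) f' = g ^ k * f' := by
    intro k
    induction k using Int.induction_on with
    | zero => simp
    | succ k ih =>
      rw [add_comm (k : ℤ), zpow_one_add, map_mul, MulAut.mul_apply, ih, map_mul, map_zpow, hfix, hbase,
        zpow_one_add, ← mul_assoc, (Commute.self_zpow g (k : ℤ)).symm.eq]
    | pred k ih =>
      have hinv : (MulAut.conj y)⁻¹ f' = g⁻¹ * f' := by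
        apply (MulAut.conj y).injective
        rw [MulAut.apply_inv_self, map_mul, map_inv, hfix, hbase, inv_mul_cancel_left]
      have hfixi : (MulAut.conj y)⁻¹ g = g := by
        apply (MulAut.conj y).injective
        rw [MulAut.apply_inv_self, hfix]
      rw [sub_eq_add_neg, add_comm, zpow_add, zpow_neg_one, map_mul, map_inv, MulAut.mul_apply, ih, map_mul,
        map_zpow, hfixi, hinv, zpow_add, zpow_neg_one, ← mul_assoc]
      rw [((Commute.zpow_self g _).inv_right).eq]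
  rw [← MulAut.conj_apply, hpow, hi]

end CfsgLib.FGS.NoTriangle
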