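/-
Commuting pairs, Hall subgroups and cores for groups without triples of commuting elements of three
different prime orders.
-/
import Cfsg.Agent.Lib.FGS.NoTriangle.Tools
import Cfsg.Agent.Lib.OddLocal.HallBasic
import Cfsg.Agent.Lib.Signalizer.Ambient

set_option autoImplicit false

namespace CfsgLib.FGS.NoTriangle

open Subgroup Cfsg
open scoped Pointwise
open OddLocal.Sec13 (IsPi)

universe u

variable {G : Type u} [Group G] [Finite G]

omit [Finite G] in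
theorem orderOf_conj_eq (g x : G) : orderOf (g * x * g⁻¹) = orderOf x :=
  orderOf_injective (MulAut.conj g).toMonoidHom (MulAut.conj g).injective x

omit [Finite G] in
theorem Commute.conj_pair {x y : G} (h : Commute x y) (g : G) : Commute (g * x * g⁻¹) (g * y * g⁻¹) :=
  h.map (MulAut.conj g).toMonoidHom

omit [Finite G] in
theorem Pair2.conj {r : ℕ} {x y : G} (h : Pair2 r x y) (g : G) : Pair2 r (g * x * g⁻¹) (g * y * g⁻¹) where
  ox := by rw [orderOf_conj_eq, h.ox]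
  oy := by rw [orderOf_conj_eq, h.oy]
  comm := Commute.conj_pair h.comm g
  notMem hm := by
    obtain ⟨i, hi⟩ := mem_zpowers_iff.1 hm
    rw [conj_zpow] at hi
    exact h.notMem ⟨i, mul_left_cancel (mul_right_cancel hi)⟩

theorem zpowers_eq_of_mem {r : ℕ} {a x : G} (hx : x ∈ zpowers a) (ox : orderOf x = r) (oa : orderOf a = r) :
    zpowers x = zpowers a :=
  eq_of_le_of_card_ge (zpowers_le.2 hx) (by rw [Nat.card_zpowers, Nat.card_zpowers, ox, oa])

theorem Pair2.exists_notMem {r : ℕ} {x y : G} (h : Pair2 r x y) {R : Subgroup G} (hx : x ∈ R) (hy : y ∈ R)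
    {a : G} (oa : orderOf a = r) : ∃ f ∈ R, orderOf f = r ∧ f ∉ zpowers a := by
  by_cases hxa : x ∈ zpowers a
  · exact ⟨y, hy, h.oy, fun hya => h.notMem (zpowers_eq_of_mem hxa h.ox oa ▸ hya)⟩
  · exact ⟨x, hx, h.ox, hxa⟩

/-- A nontrivial group without a pair has a single subgroup of order `r`. -/
theorem exists_unique_order {r : ℕ} [hr : Fact r.Prime] {A : Subgroup G} (hA : IsPGroup r A) (hA1 : A ≠ ⊥)
    (hno : ∀ x ∈ A, ∀ y ∈ A, ¬ Pair2 r x y) :
    ∃ a ∈ A, orderOf a = r ∧ ∀ x ∈ A, orderOf x = r → x ∈ zpowers a := by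
  obtain ⟨a, ha, oa⟩ := exists_omegaZ hA hA1
  refine ⟨a, ha.1, oa, fun x hx ox => ?_⟩
  by_contra hxa
  exact hno a ha.1 x hx ⟨oa, ox, ha.2.2 x hx, hxa⟩

theorem mem_normalizer_zpowers {r : ℕ} {X : Subgroup G} {a : G} (ha : a ∈ X) (oa : orderOf a = r)
    (hu : ∀ x ∈ X, orderOf x = r → x ∈ zpowers a) {g : G} (hg : g ∈ normalizer (X : Set G)) :
    g ∈ normalizer (zpowers a : Set G) := by
  refine mem_normalizer_fintype (S := (zpowers a : Set G)) fun n hn => ?_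
  obtain ⟨i, rfl⟩ := mem_zpowers_iff.1 hn
  rw [← conj_zpow]
  exact zpow_mem (hu _ ((mem_normalizer_iff.1 hg a).1 ha) ((orderOf_conj_eq g a).trans oa)) i

theorem isCyclic_of_no_pair {r : ℕ} [hr : Fact r.Prime] (hr2 : r ≠ 2) {A : Subgroup G} (hA : IsPGroup r A)
    (hno : ∀ x ∈ A, ∀ y ∈ A, ¬ Pair2 r x y) : IsCyclic A := by
  refine (Solvable.isCyclic_or_quaternion hA fun x y hx hy => ?_).resolve_right fun h => hr2 h.1
  have hA1 : A ≠ ⊥ := by
    intro e
    rw [← Subgroup.orderOf_coe, show (x : G) = 1 from mem_bot.1 (by rw [← e]; exact x.2), orderOf_one] at hx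
    exact hr.out.one_lt.ne hx
  obtain ⟨a, -, oa, hu⟩ := exists_unique_order hA hA1 hno
  rw [← Subgroup.orderOf_coe] at hx hy
  have h : (x : G) ∈ zpowers (y : G) := by
    rw [zpowers_eq_of_mem (hu _ y.2 hy) hy oa]
    exact hu _ x.2 hx
  obtain ⟨i, hi⟩ := mem_zpowers_iff.1 h
  exact ⟨i, Subtype.ext (by simpa using hi)⟩

omit [Finite G] in
theorem Fix.conj {U : Subgroup G} {x g : G} (hg : g ∈ normalizer (U : Set G)) (h : Fix U x) :
    Fix U (g * x * g⁻¹) := by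
  obtain ⟨u, hu, hu1, hxu⟩ := h
  refine ⟨g * u * g⁻¹, (mem_normalizer_iff.1 hg u).1 hu, fun e => hu1 ?_, Commute.conj_pair hxu g⟩
  exact conj_eq_one_iff.1 e

omit [Finite G] in
theorem Fix.of_mem_zpowers {U : Subgroup G} {a e : G} (h : Fix U e) (ha : a ∈ zpowers e) : Fix U a := by
  obtain ⟨u, hu, hu1, hu'⟩ := h
  obtain ⟨i, rfl⟩ := mem_zpowers_iff.1 ha
  exact ⟨u, hu, hu1, hu'.zpow_left i⟩

omit [Finite G] in
theorem fix_of_centralizes {U : Subgroup G} (hU : U ≠ ⊥) {x : G} (h : ∀ u ∈ U, Commute x u) : Fix U x := by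
  obtain ⟨u, hu, hu1⟩ := U.bot_or_exists_ne_one.resolve_left hU
  exact ⟨u, hu, hu1, h u hu⟩

/-- An element with a fixed point, centralised by a pair, yields a triple. -/
theorem Pair2.triple {τ : Finset ℕ} (hT : NoTriple G τ) {p r s : ℕ} [hp : Fact p.Prime] [hr : Fact r.Prime]
    (mp : p ∈ τ) (mr : r ∈ τ) (ms : s ∈ τ) (hpr : p ≠ r) (hps : p ≠ s) (hrs : r ≠ s) {U : Subgroup G}
    (hU : IsPGroup p U) {b : G} (hb : orderOf b = s) (hfix : Fix U b) {x y : G} (h : Pair2 r x y)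
    (hx : x ∈ normalizer (U : Set G)) (hy : y ∈ normalizer (U : Set G)) (hbx : Commute b x)
    (hby : Commute b y) : False := by
  obtain ⟨u, hu, hu1, hbu⟩ := hfix
  have hX1 : U ⊓ centralizer ({b} : Set G) ≠ ⊥ := fun e => hu1 (mem_bot.1 (e ▸
    (⟨hu, mem_centralizer_singleton_iff.2 hbu.symm.eq⟩ : u ∈ U ⊓ centralizer ({b} : Set G))))
  obtain ⟨e, he, oe, hfe⟩ := h.exists_fix hpr (hU.to_le inf_le_left) hX1
    (mem_normalizer_inf_centralizer hx hbx.symm) (mem_normalizer_inf_centralizer hy hby.symm)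
  obtain ⟨w, hw, ow, hew⟩ := hfe.exists_prime (hU.to_le inf_le_left)
  exact hT p mp r mr s ms hpr hrs hps w e b ow oe hb hew.symm (h.commute_of_commute hbx hby he).symm
    (show Commute w b from mem_centralizer_singleton_iff.1 hw.2)

/-- Elements of a closure of a pair. -/
theorem Pair2.exists_zpow_mul {r : ℕ} {x y : G} (h : Pair2 r x y) {e : G}
    (he : e ∈ closure ({x, y} : Set G)) : ∃ i j : ℤ, e = x ^ i * y ^ j := by
  induction he using closure_induction with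
  | mem u hu =>
    rcases hu with rfl | rfl
    · exact ⟨1, 0, by simp⟩
    · exact ⟨0, 1, by simp⟩
  | one => exact ⟨0, 0, by simp⟩
  | mul u v _ _ ihu ihv =>
    obtain ⟨i, j, rfl⟩ := ihu
    obtain ⟨k, l, rfl⟩ := ihv
    refine ⟨i + k, j + l, ?_⟩
    have e1 : y ^ j * x ^ k = x ^ k * y ^ j := (h.comm.symm.zpow_zpow j k).eq
    rw [zpow_add, zpow_add, mul_assoc (x ^ i) (y ^ j), ← mul_assoc (y ^ j) (x ^ k), e1, mul_assoc, mul_assoc]
  | inv u _ ih =>
    obtain ⟨i, j, rfl⟩ := ih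
    refine ⟨-i, -j, ?_⟩
    rw [mul_inv_rev, ← zpow_neg, ← zpow_neg]
    exact (h.comm.symm.zpow_zpow (-j) (-i)).eq

/-! ### Cores -/

theorem pCoreOf_eq_bot_of_not_dvd {t : ℕ} [Fact t.Prime] {K : Subgroup G} (h : ¬ t ∣ Nat.card K) :
    pCoreOf t K = ⊥ := by
  by_contra hne
  obtain ⟨a, ha, oa⟩ := exists_omegaZ (LocalEven.isPGroup_pCoreOf t K) hne
  exact h (oa ▸ Subgroup.orderOf_dvd_natCard _ (LocalEven.pCoreOf_le t K ha.1))

/-- An element of prime order centralising every core lies in its core. -/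
theorem mem_core_of_centralizes {t : ℕ} [Fact t.Prime] {K : Subgroup G} (hK : Group.IsSolvable K) {x : G}
    (hx : x ∈ K) (ox : orderOf x = t)
    (h : ∀ s : ℕ, s.Prime → s ∣ Nat.card K → ∀ c ∈ pCoreOf s K, Commute x c) : x ∈ pCoreOf t K := by
  refine Signalizer.le_pCoreOf_of_centralizes_cores (Y := zpowers x) hK (zpowers_le.2 hx)
    (IsPGroup.of_card (n := 1) (by rw [Nat.card_zpowers, ox, pow_one])) (fun s hs c hc => ?_) (mem_zpowers x)
  rw [mem_centralizer_iff]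
  intro w hw
  obtain ⟨i, rfl⟩ := mem_zpowers_iff.1 hw
  by_cases hd : s ∣ Nat.card K
  · exact ((h s hs hd c hc).zpow_left i).eq
  · haveI : Fact s.Prime := ⟨hs⟩
    rw [pCoreOf_eq_bot_of_not_dvd hd, mem_bot] at hc
    rw [hc, one_mul, mul_one]

theorem exists_pCoreOf_ne_bot {K : Subgroup G} (hK : Group.IsSolvable K) (hK1 : K ≠ ⊥) :
    ∃ t : ℕ, t.Prime ∧ t ∣ Nat.card K ∧ pCoreOf t K ≠ ⊥ := by
  by_contra hno
  have hno' : ∀ t : ℕ, t.Prime → t ∣ Nat.card K → pCoreOf t K = ⊥ := fun t ht hd =>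
    by_contra fun h => hno ⟨t, ht, hd, h⟩
  obtain ⟨t, ht, hd⟩ := Nat.exists_prime_and_dvd (fun e => hK1 (Subgroup.eq_bot_of_card_eq _ e))
  haveI : Fact t.Prime := ⟨ht⟩
  obtain ⟨x, hx⟩ := exists_prime_orderOf_dvd_card' t hd
  have hm := mem_core_of_centralizes hK x.2 ((Subgroup.orderOf_coe x).trans hx) fun s hs hsd c hc => by
    rw [hno' s hs hsd, mem_bot] at hc
    rw [hc]
    exact Commute.one_right _
  rw [hno' t ht hd, mem_bot] at hm
  rw [← Subgroup.orderOf_coe, hm, orderOf_one] at hx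
  exact ht.one_lt.ne hx

/-! ### Hall subgroups -/

theorem isPi_of_order {π : Set ℕ} {t : ℕ} (ht : t.Prime) (hm : t ∈ π) {x : G} (ox : orderOf x = t) :
    IsPi π (zpowers x) := fun l hl hd => by
  rw [Nat.card_zpowers, ox] at hd
  exact (Nat.prime_dvd_prime_iff_eq hl ht).1 hd ▸ hm

omit [Finite G] in
theorem mem_of_conj_smul_le {g x : G} {U K : Subgroup G} (h : MulAut.conj g • U ≤ K) (hx : x ∈ U) :
    g * x * g⁻¹ ∈ K :=
  h (Subgroup.smul_mem_pointwise_smul x (MulAut.conj g) U hx)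

theorem exists_conj_mem {π : Set ℕ} {M K : Subgroup G} (hM : Group.IsSolvable M) (hK : IsPiHallOf π K M)
    {t : ℕ} (ht : t.Prime) (hm : t ∈ π) {x : G} (hx : x ∈ M) (ox : orderOf x = t) :
    ∃ g ∈ M, g * x * g⁻¹ ∈ K := by
  obtain ⟨g, hg, hle⟩ := OddLocal.Sec13.exists_conj_le_hallOf hM hK (zpowers_le.2 hx) (isPi_of_order ht hm ox)
  exact ⟨g, hg, mem_of_conj_smul_le hle (mem_zpowers x)⟩

theorem exists_commute_mem [Group.IsSolvable G] {π : Set ℕ} {M : Subgroup G} (hM : IsPiHallOf π M ⊤)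
    {t v : ℕ} (ht : t.Prime) (hv : v.Prime) (mt : t ∈ π) (mv : v ∈ π) {x y : G} (ox : orderOf x = t)
    (oy : orderOf y = v) (h : Commute x y) :
    ∃ x' ∈ M, ∃ y' ∈ M, orderOf x' = t ∧ orderOf y' = v ∧ Commute x' y' := by
  have hn : zpowers y ≤ normalizer (zpowers x : Set G) := zpowers_le.2 <|
    mem_normalizer_fintype (S := (zpowers x : Set G)) fun w hw => by
      obtain ⟨i, rfl⟩ := mem_zpowers_iff.1 hw
      rw [← (h.zpow_left i).eq, mul_inv_cancel_right]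
      exact hw
  obtain ⟨g, -, hle⟩ := OddLocal.Sec13.exists_conj_le_hallOf (inferInstance : Group.IsSolvable (⊤ : Subgroup G))
    hM le_top ((isPi_of_order ht mt ox).sup (isPi_of_order hv mv oy) hn)
  exact ⟨_, mem_of_conj_smul_le hle (mem_sup_left (mem_zpowers x)), _,
    mem_of_conj_smul_le hle (mem_sup_right (mem_zpowers y)), (orderOf_conj_eq g x).trans ox,
    (orderOf_conj_eq g y).trans oy, Commute.conj_pair h g⟩

theorem exists_pair_over_core [Group.IsSolvable G] {π : Set ℕ} {M : Subgroup G} (hM : IsPiHallOf π M ⊤)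
    {t : ℕ} [ht : Fact t.Prime] (mt : t ∈ π) {x y : G} (h : Pair2 t x y) :
    ∃ R : Subgroup G, R ≤ M ∧ IsPGroup t R ∧ pCoreOf t M ≤ R ∧ ∃ x ∈ R, ∃ y ∈ R, Pair2 t x y := by
  obtain ⟨g, -, hle⟩ := OddLocal.Sec13.exists_conj_le_hallOf (inferInstance : Group.IsSolvable (⊤ : Subgroup G))
    hM le_top ((OddLocal.Sec13.isPi_singleton_of_isPGroup h.closure_props.2.2.2).mono
      (Set.singleton_subset_iff.2 mt))
  have hx := mem_of_conj_smul_le hle (subset_closure (Set.mem_insert x {y}))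
  have hy := mem_of_conj_smul_le hle (subset_closure (Set.mem_insert_of_mem x (Set.mem_singleton y)))
  have hEM : closure ({g * x * g⁻¹, g * y * g⁻¹} : Set G) ≤ M :=
    (closure_le M).2 (by rintro u (rfl | rfl) <;> assumption)
  refine ⟨closure {g * x * g⁻¹, g * y * g⁻¹} ⊔ pCoreOf t M, sup_le hEM (LocalEven.pCoreOf_le t M),
    (h.conj g).closure_props.2.2.2.to_sup_of_normal_right' (LocalEven.isPGroup_pCoreOf t M)
      (hEM.trans (LocalEven.le_normalizer_pCoreOf t M)), le_sup_right, _,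
    mem_sup_left (subset_closure (Or.inl rfl)), _, mem_sup_left (subset_closure (Or.inr rfl)), h.conj g⟩

theorem hallOf_trans {π π' : Set ℕ} {K L M : Subgroup G} (hπ : π ⊆ π') (hK : IsPiHallOf π K L)
    (hL : IsPiHallOf π' L M) : IsPiHallOf π K M :=
  ⟨hK.1.trans hL.1, hK.2.1, fun t ht htπ hd => by
    rw [← relIndex_mul_relIndex K L M hK.1 hL.1] at hd
    exact (ht.dvd_mul.1 hd).elim (hK.2.2 t ht htπ) (hL.2.2 t ht (hπ htπ))⟩

/-! ### Elements of three prime orders force a commuting pair -/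

theorem higman {τ : Finset ℕ} (hτ : τ.card = 3) (hprime : ∀ t ∈ τ, t.Prime) {C : Subgroup G}
    (hC : Group.IsSolvable C) (hel : ∀ t ∈ τ, ∃ x ∈ C, orderOf x = t)
    (hno : ∀ t ∈ τ, ∀ v ∈ τ, t ≠ v → ∀ x ∈ C, ∀ y ∈ C, orderOf x = t → orderOf y = v → ¬ Commute x y) :
    False := by
  obtain ⟨M, hM, -⟩ := OddLocal.Sec13.exists_hallOf_ge (π := (τ : Set ℕ)) hC bot_le
    (OddLocal.Sec13.isPi_bot _)
  have hMs : Group.IsSolvable M := Solvable.isSolvable_of_le hC hM.1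
  have helM : ∀ t ∈ τ, ∃ x ∈ M, orderOf x = t := by
    intro t ht
    obtain ⟨x, hx, ox⟩ := hel t ht
    obtain ⟨g, -, hg⟩ := exists_conj_mem hC hM (hprime t ht) ht hx ox
    exact ⟨_, hg, (orderOf_conj_eq g x).trans ox⟩
  obtain ⟨t0, ht0⟩ := Finset.card_pos.1 (by omega : 0 < τ.card)
  have hM1 : M ≠ ⊥ := fun e => by
    obtain ⟨x, hx, ox⟩ := helM t0 ht0
    rw [e, mem_bot] at hx
    rw [hx, orderOf_one] at ox
    exact (hprime t0 ht0).one_lt.ne ox
  obtain ⟨q, hqp, hqd, hU⟩ := exists_pCoreOf_ne_bot hMs hM1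
  have hqm : q ∈ τ := hM.2.1 q hqp hqd
  haveI : Fact q.Prime := ⟨hqp⟩
  obtain ⟨K, hK, -⟩ := OddLocal.Sec13.exists_hallOf_ge (π := (τ.erase q : Set ℕ)) hMs bot_le
    (OddLocal.Sec13.isPi_bot _)
  have hKs : Group.IsSolvable K := Solvable.isSolvable_of_le hMs hK.1
  have helK : ∀ t ∈ τ.erase q, ∃ x ∈ K, orderOf x = t := by
    intro t ht
    obtain ⟨x, hx, ox⟩ := helM t (Finset.mem_of_mem_erase ht)
    obtain ⟨g, -, hg⟩ := exists_conj_mem hMs hK (hprime t (Finset.mem_of_mem_erase ht)) (by simpa [and_comm] using ht) hx ox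
    exact ⟨_, hg, (orderOf_conj_eq g x).trans ox⟩
  have hcard : (τ.erase q).card = 2 := by rw [Finset.card_erase_of_mem hqm, hτ]
  obtain ⟨t1, ht1⟩ := Finset.card_pos.1 (by omega : 0 < (τ.erase q).card)
  have hK1 : K ≠ ⊥ := fun e => by
    obtain ⟨x, hx, ox⟩ := helK t1 ht1
    rw [e, mem_bot] at hx
    rw [hx, orderOf_one] at ox
    exact (hprime t1 (Finset.mem_of_mem_erase ht1)).one_lt.ne ox
  obtain ⟨r, hrp, hrd, hR⟩ := exists_pCoreOf_ne_bot hKs hK1
  have hrm : r ∈ τ.erase q := by simpa [and_comm] using hK.2.1 r hrp hrd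
  haveI : Fact r.Prime := ⟨hrp⟩
  obtain ⟨s, hs⟩ := Finset.card_pos.1
    (by rw [Finset.card_erase_of_mem hrm, hcard]; omega : 0 < ((τ.erase q).erase r).card)
  simp only [Finset.mem_erase] at hs hrm
  obtain ⟨hsr, hsq, hsm⟩ := hs
  haveI : Fact s.Prime := ⟨hprime s hsm⟩
  obtain ⟨b, hb, ob⟩ := helK s (Finset.mem_erase.2 ⟨hsq, hsm⟩)
  have hbM := hK.1 hb
  have hfU : ¬ Fix (pCoreOf q M) b := fun hf => by
    obtain ⟨w, hw, ow, hbw⟩ := hf.exists_prime (LocalEven.isPGroup_pCoreOf q M)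
    exact hno q hqm s hsm (Ne.symm hsq) w (hM.1 (LocalEven.pCoreOf_le q M hw)) b (hM.1 hbM) ow ob hbw.symm
  have hfR : ¬ Fix (pCoreOf r K) b := fun hf => by
    obtain ⟨w, hw, ow, hbw⟩ := hf.exists_prime (LocalEven.isPGroup_pCoreOf r K)
    exact hno r hrm.2 s hsm (Ne.symm hsr) w (hM.1 (hK.1 (LocalEven.pCoreOf_le r K hw))) b (hM.1 hbM) ow ob hbw.symm
  obtain ⟨u, hu, ou⟩ := exists_omegaZ (LocalEven.isPGroup_pCoreOf q M) hU
  obtain ⟨v, hv, ov⟩ := exists_omegaZ (LocalEven.isPGroup_pCoreOf r K) hR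
  have hc := commute_of_fpf (Ne.symm hrm.1) (LocalEven.isPGroup_pCoreOf q M) (LocalEven.isPGroup_pCoreOf r K)
    ((LocalEven.pCoreOf_le r K).trans (hK.1.trans (LocalEven.le_normalizer_pCoreOf q M))) ob
    (LocalEven.le_normalizer_pCoreOf q M hbM) (LocalEven.le_normalizer_pCoreOf r K hb) hfU hfR hu.1 hv.1
  exact hno q hqm r hrm.2 (Ne.symm hrm.1) u (hM.1 (LocalEven.pCoreOf_le q M hu.1)) v
    (hM.1 (hK.1 (LocalEven.pCoreOf_le r K hv.1))) ou ov hc

/-- Every prime of the set has a pair. -/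
theorem exists_pair [Group.IsSolvable G] {τ : Finset ℕ} (hprime : ∀ t ∈ τ, t.Prime) (hτ : τ.card = 4)
    (hpairs : ∀ t ∈ τ, ∀ v ∈ τ, t ≠ v → ∃ x y : G, orderOf x = t ∧ orderOf y = v ∧ Commute x y)
    (hT : NoTriple G τ) {t : ℕ} (ht : t ∈ τ) : ∃ x y : G, Pair2 t x y := by
  haveI : Fact t.Prime := ⟨hprime t ht⟩
  by_contra hno
  obtain ⟨P, hP, -⟩ := OddLocal.Sec13.exists_hallOf_ge (π := {t}) (inferInstance : Group.IsSolvable (⊤ : Subgroup G))
    bot_le (OddLocal.Sec13.isPi_bot _)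
  have hPp : IsPGroup t P := OddLocal.Sec13.isPGroup_of_isPi_singleton hP.2.1
  have hcard : (τ.erase t).card = 3 := by rw [Finset.card_erase_of_mem ht, hτ]
  obtain ⟨v0, hv0⟩ := Finset.card_pos.1 (by omega : 0 < (τ.erase t).card)
  simp only [Finset.mem_erase] at hv0
  obtain ⟨x0, -, ox0, -, -⟩ := hpairs t ht v0 hv0.2 (Ne.symm hv0.1)
  obtain ⟨g0, -, hg0⟩ := exists_conj_mem (inferInstance : Group.IsSolvable (⊤ : Subgroup G)) hP (hprime t ht)
    rfl (mem_top x0) ox0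
  have hP1 : P ≠ ⊥ := fun e => by
    rw [e, mem_bot] at hg0
    have h1 := orderOf_conj_eq g0 x0
    rw [hg0, orderOf_one, ox0] at h1
    exact (hprime t ht).one_lt.ne h1
  obtain ⟨a, -, oa, hu⟩ := exists_unique_order hPp hP1 fun x _ y _ h => hno ⟨x, y, h⟩
  refine higman hcard (fun v hv => hprime v (Finset.mem_of_mem_erase hv)) (C := centralizer ({a} : Set G))
    inferInstance (fun v hv => ?_) fun v hv w hw hvw x hx y hy ox oy hxy => ?_
  · simp only [Finset.mem_erase] at hv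
    obtain ⟨x, y, ox, oy, hxy⟩ := hpairs t ht v hv.2 (Ne.symm hv.1)
    obtain ⟨g, -, hg⟩ := exists_conj_mem (inferInstance : Group.IsSolvable (⊤ : Subgroup G)) hP (hprime t ht)
      rfl (mem_top x) ox
    have hz := zpowers_eq_of_mem (hu _ hg ((orderOf_conj_eq g x).trans ox)) ((orderOf_conj_eq g x).trans ox) oa
    obtain ⟨i, hi⟩ := mem_zpowers_iff.1 (hz.symm ▸ mem_zpowers a)
    refine ⟨g * y * g⁻¹, mem_centralizer_singleton_iff.2 ?_, (orderOf_conj_eq g y).trans oy⟩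
    rw [← hi]
    exact ((Commute.conj_pair hxy g).zpow_left i).symm.eq
  · simp only [Finset.mem_erase] at hv hw
    exact hT v hv.2 w hw.2 t ht hvw hw.1 hv.1 x y a ox oy oa hxy (mem_centralizer_singleton_iff.1 hy)
      (mem_centralizer_singleton_iff.1 hx)

end CfsgLib.FGS.NoTriangle
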