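/-
The case of one nontrivial core.
-/
import Cfsg.Agent.Lib.FGS.NoTriangle.Pairs
import Cfsg.Agent.Lib.PGroup.AbelianConjSylow

set_option autoImplicit false

namespace CfsgLib.FGS.NoTriangle

open Subgroup Cfsg
open scoped commutatorElement

universe u

variable {G : Type u} [Group G] [Finite G]

/-- `P` is a `p`-group, `Q` a `q`-group of rank at least two normalising it, and `K` an `{r,s}`-group
normalising both, and no element of order `q`, `r` or `s` centralises `P`. -/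
structure Single (τ : Finset ℕ) (p q r s : ℕ) (P Q K : Subgroup G) : Prop where
  noTriple : NoTriple G τ
  prime : ∀ t ∈ τ, t.Prime
  mp : p ∈ τ
  mq : q ∈ τ
  mr : r ∈ τ
  ms : s ∈ τ
  npq : p ≠ q
  npr : p ≠ r
  nps : p ≠ s
  nqr : q ≠ r
  nqs : q ≠ s
  nrs : r ≠ s
  hP : IsPGroup p P
  hQ : IsPGroup q Q
  nPQ : Q ≤ normalizer (P : Set G)
  nP : K ≤ normalizer (P : Set G)
  nQ : K ≤ normalizer (Q : Set G)
  solK : Group.IsSolvable K
  divK : ∀ t : ℕ, t.Prime → t ∣ Nat.card K → t = r ∨ t = s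
  faith : ∀ x : G, orderOf x = q ∨ orderOf x = r ∨ orderOf x = s → (∀ u ∈ P, Commute x u) → False
  pairQ : ∃ x ∈ Q, ∃ y ∈ Q, Pair2 q x y
  pairR : ∃ R : Subgroup G, R ≤ K ∧ IsPGroup r R ∧ pCoreOf r K ≤ R ∧ ∃ x ∈ R, ∃ y ∈ R, Pair2 r x y
  pairS : ∃ S : Subgroup G, S ≤ K ∧ IsPGroup s S ∧ pCoreOf s K ≤ S ∧ ∃ x ∈ S, ∃ y ∈ S, Pair2 s x y

theorem eq_of_mem_zpowers_two {a x : G} (oa : orderOf a = 2) (hx : x ∈ zpowers a) (hx1 : x ≠ 1) : x = a := by
  obtain ⟨i, rfl⟩ := mem_zpowers_iff.1 hx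
  rw [← zpow_mod_orderOf, oa] at hx1 ⊢
  rcases Int.emod_two_eq_zero_or_one i with h | h
  · rw [show i % ((2 : ℕ) : ℤ) = 0 from h, zpow_zero] at hx1
    exact absurd rfl hx1
  · rw [show i % ((2 : ℕ) : ℤ) = 1 from h, zpow_one]

theorem commute_of_two {a g : G} (oa : orderOf a = 2) (hg : g ∈ normalizer (zpowers a : Set G)) : Commute g a := by
  have h1 := eq_of_mem_zpowers_two oa ((mem_normalizer_iff.1 hg a).1 (mem_zpowers a))
    (fun e => by rw [conj_eq_one_iff] at e; rw [e, orderOf_one] at oa; omega)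
  exact mul_inv_eq_iff_eq_mul.1 h1

namespace Single

variable {τ : Finset ℕ} {p q r s : ℕ} {P Q K : Subgroup G} (h : Single τ p q r s P Q K)

include h

theorem symm_rs : Single τ p q s r P Q K where
  noTriple := h.noTriple
  prime := h.prime
  mp := h.mp
  mq := h.mq
  mr := h.ms
  ms := h.mr
  npq := h.npq
  npr := h.nps
  nps := h.npr
  nqr := h.nqs
  nqs := h.nqr
  nrs := h.nrs.symm
  hP := h.hP
  hQ := h.hQ
  nPQ := h.nPQ
  nP := h.nP
  nQ := h.nQ
  solK := h.solK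
  divK t ht hd := (h.divK t ht hd).symm
  faith x hx := h.faith x (hx.imp_right Or.symm)
  pairQ := h.pairQ
  pairR := h.pairS
  pairS := h.pairR

theorem neP : P ≠ ⊥ := fun e => by
  obtain ⟨x, -, y, -, hxy⟩ := h.pairQ
  exact h.faith x (Or.inl hxy.ox) fun u hu => by
    rw [e, mem_bot] at hu
    exact hu ▸ Commute.one_right _

theorem star {b : G} (hb : b ∈ K) (ob : orderOf b = s) {x y : G} (hxy : Pair2 r x y) (hx : x ∈ K) (hy : y ∈ K)
    (hbx : Commute b x) (hby : Commute b y) : False := by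
  haveI : Fact p.Prime := ⟨h.prime p h.mp⟩
  haveI : Fact q.Prime := ⟨h.prime q h.mq⟩
  haveI : Fact r.Prime := ⟨h.prime r h.mr⟩
  haveI : Fact s.Prime := ⟨h.prime s h.ms⟩
  have hfP : ¬ Fix P b := fun hf =>
    hxy.triple h.noTriple h.mp h.mr h.ms h.npr h.nps h.nrs h.hP ob hf (h.nP hx) (h.nP hy) hbx hby
  have hfQ : ¬ Fix Q b := fun hf =>
    hxy.triple h.noTriple h.mq h.mr h.ms h.nqr h.nqs h.nrs h.hQ ob hf (h.nQ hx) (h.nQ hy) hbx hby
  obtain ⟨x0, hx0, y0, -, hxy0⟩ := h.pairQ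
  exact h.faith x0 (Or.inl hxy0.ox) fun u hu =>
    (commute_of_fpf h.npq h.hP h.hQ h.nPQ ob (h.nP hb) (h.nQ hb) hfP hfQ hu hx0).symm

theorem both_false_of_lt (hlt : s < r) (hR : pCoreOf r K ≠ ⊥) (hS : pCoreOf s K ≠ ⊥) : False := by
  haveI : Fact r.Prime := ⟨h.prime r h.mr⟩
  haveI : Fact s.Prime := ⟨h.prime s h.ms⟩
  obtain ⟨a, ha, oa⟩ := exists_omegaZ (LocalEven.isPGroup_pCoreOf r K) hR
  by_cases hno : ∀ x ∈ pCoreOf s K, ∀ y ∈ pCoreOf s K, ¬ Pair2 s x y
  · obtain ⟨b, hb, ob, hu⟩ := exists_unique_order (LocalEven.isPGroup_pCoreOf s K) hS hno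
    have hn : ∀ g ∈ K, g ∈ normalizer (zpowers b : Set G) := fun g hg =>
      mem_normalizer_zpowers hb ob hu (LocalEven.le_normalizer_pCoreOf s K hg)
    obtain ⟨R, hRK, -, -, x, hx, y, hy, hxy⟩ := h.pairR
    exact h.star (LocalEven.pCoreOf_le s K hb) ob hxy (hRK hx) (hRK hy)
      (commute_of_prime_lt hlt ob hxy.ox (hn x (hRK hx))).symm
      (commute_of_prime_lt hlt ob hxy.oy (hn y (hRK hy))).symm
  · push Not at hno
    obtain ⟨x, hx, y, hy, hxy⟩ := hno
    exact h.symm_rs.star (LocalEven.pCoreOf_le r K ha.1) oa hxy (LocalEven.pCoreOf_le s K hx)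
      (LocalEven.pCoreOf_le s K hy) (Signalizer.commute_pCoreOf h.nrs ha.1 hx)
      (Signalizer.commute_pCoreOf h.nrs ha.1 hy)

theorem not_fix_of_centralizes {e : G} (oe : orderOf e = r) (he : ∀ v ∈ Q, Commute e v) : ¬ Fix P e := by
  haveI : Fact p.Prime := ⟨h.prime p h.mp⟩
  haveI : Fact q.Prime := ⟨h.prime q h.mq⟩
  intro hf
  obtain ⟨x, hx, y, hy, hxy⟩ := h.pairQ
  exact hxy.triple h.noTriple h.mp h.mq h.mr h.npq h.npr h.nqr h.hP oe hf (h.nPQ hx) (h.nPQ hy) (he x hx)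
    (he y hy)

theorem exists_partner (hR : pCoreOf r K ≠ ⊥) :
    ∃ x y b a : G, Pair2 s x y ∧ x ∈ K ∧ y ∈ K ∧ b ∈ closure ({x, y} : Set G) ∧ orderOf b = s ∧
      a ∈ pCoreOf r K ∧ orderOf a = r ∧ Commute b a ∧
      ∀ e ∈ pCoreOf r K, orderOf e = r → (∀ v ∈ Q, Commute e v) → Commute b e := by
  haveI : Fact p.Prime := ⟨h.prime p h.mp⟩
  haveI : Fact r.Prime := ⟨h.prime r h.mr⟩
  haveI : Fact s.Prime := ⟨h.prime s h.ms⟩
  obtain ⟨S, hSK, -, -, x, hx, y, hy, hxy⟩ := h.pairS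
  set C := pCoreOf r K ⊓ centralizer (Q : Set G) with hC
  have hCr : IsPGroup r C := (LocalEven.isPGroup_pCoreOf r K).to_le inf_le_left
  have hCK : C ≤ K := inf_le_left.trans (LocalEven.pCoreOf_le r K)
  have hmC : ∀ {e : G}, e ∈ pCoreOf r K → (∀ v ∈ Q, Commute e v) → e ∈ C := fun he hc =>
    ⟨he, mem_centralizer_iff.2 fun v hv => (hc v hv).symm.eq⟩
  by_cases hC1 : C = ⊥
  · obtain ⟨b, hb, ob, hf⟩ := hxy.exists_fix h.nrs (LocalEven.isPGroup_pCoreOf r K) hR
      (LocalEven.le_normalizer_pCoreOf r K (hSK hx)) (LocalEven.le_normalizer_pCoreOf r K (hSK hy))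
    obtain ⟨a, ha, oa, hba⟩ := hf.exists_prime (LocalEven.isPGroup_pCoreOf r K)
    refine ⟨x, y, b, a, hxy, hSK hx, hSK hy, hb, ob, ha, oa, hba, fun e he oe hc => ?_⟩
    have := hmC he hc
    rw [hC1, mem_bot] at this
    exact this ▸ Commute.one_right _
  have hcQ : ∀ c ∈ C, ∀ v ∈ Q, Commute c v := fun c hc v hv => (mem_centralizer_iff.1 hc.2 v hv).symm
  have hno : ∀ u ∈ C, ∀ v ∈ C, ¬ Pair2 r u v := fun u hu v hv huv => by
    obtain ⟨e, he, oe, hf⟩ := huv.exists_fix h.npr h.hP h.neP (h.nP (hCK hu)) (h.nP (hCK hv))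
    exact h.not_fix_of_centralizes oe (hcQ e (huv.mem_of_mem hu hv he)) hf
  obtain ⟨a0, ha0, oa0, hu⟩ := exists_unique_order hCr hC1 hno
  have hn : ∀ g ∈ K, g ∈ normalizer (zpowers a0 : Set G) := fun g hg => by
    refine mem_normalizer_zpowers ha0 oa0 hu (mem_normalizer_fintype (S := (C : Set G)) fun c hc => ?_)
    refine ⟨(mem_normalizer_iff.1 (LocalEven.le_normalizer_pCoreOf r K hg) c).1 hc.1,
      mem_centralizer_iff.2 fun v hv => ?_⟩
    have hv' : g⁻¹ * v * g ∈ Q := by simpa using (mem_normalizer_iff.1 (inv_mem (h.nQ hg)) v).1 hv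
    have h1 : g⁻¹ * v * g * c = c * (g⁻¹ * v * g) := mem_centralizer_iff.1 hc.2 _ hv'
    calc v * (g * c * g⁻¹) = g * (g⁻¹ * v * g * c) * g⁻¹ := by group
      _ = g * (c * (g⁻¹ * v * g)) * g⁻¹ := by rw [h1]
      _ = g * c * g⁻¹ * v := by group
  have hz : IsPGroup r (zpowers a0) := IsPGroup.of_card (n := 1) (by rw [Nat.card_zpowers, oa0, pow_one])
  obtain ⟨b, hb, ob, hf⟩ := hxy.exists_fix h.nrs hz
    (fun e => by rw [zpowers_eq_bot] at e; exact (h.prime r h.mr).one_lt.ne (by rw [← oa0, e, orderOf_one]))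
    (hn x (hSK hx)) (hn y (hSK hy))
  obtain ⟨a, ha, oa, hba⟩ := hf.exists_prime hz
  refine ⟨x, y, b, a, hxy, hSK hx, hSK hy, hb, ob, ((zpowers_le.2 ha0) ha).1, oa, hba, fun e he oe hc => ?_⟩
  obtain ⟨i, hi⟩ := mem_zpowers_iff.1 ((zpowers_eq_of_mem ha oa oa0).symm ▸ hu e (hmC he hc) oe)
  exact hi ▸ hba.zpow_right i

theorem centralizes {b a : G} (hb : b ∈ K) (ob : orderOf b = s) (ha : a ∈ pCoreOf r K) (oa : orderOf a = r)
    (hba : Commute b a) (hbc : ∀ e ∈ pCoreOf r K, orderOf e = r → (∀ v ∈ Q, Commute e v) → Commute b e)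
    {Y : Subgroup G} (hY : Y ≤ pCoreOf r K) (hYc : ∀ x ∈ Y, ∀ y ∈ Y, x * y = y * x)
    (hbY : b ∈ normalizer (Y : Set G)) {y : G} (hy : y ∈ Y) : Commute b y := by
  haveI : Fact p.Prime := ⟨h.prime p h.mp⟩
  haveI : Fact q.Prime := ⟨h.prime q h.mq⟩
  haveI : Fact r.Prime := ⟨h.prime r h.mr⟩
  haveI : Fact s.Prime := ⟨h.prime s h.ms⟩
  by_contra hne
  have haK := LocalEven.pCoreOf_le r K ha
  have hYr : IsPGroup r Y := (LocalEven.isPGroup_pCoreOf r K).to_le hY
  have hYK : Y ≤ K := hY.trans (LocalEven.pCoreOf_le r K)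
  obtain ⟨D, hDY, -, hmem, hrep⟩ := exists_comm_group hYc hbY
  obtain ⟨w, hw, ow, -⟩ := exists_prime_order_power (hYr.to_le hDY) (hmem y hy)
    (fun e => hne (commutatorElement_eq_one_iff_mul_comm.1 e)) (Commute.one_left _)
  obtain ⟨y', hy', hrel⟩ := hrep w hw
  have hwe : ⁅b, y'⁆ = w := by rw [commutatorElement_def, hrel, mul_inv_cancel_right]
  by_cases hfP : Fix P b
  · have hfQ : ¬ Fix Q b := by
      intro hfQ
      obtain ⟨u, hu, ou, hbu⟩ := hfP.exists_prime h.hP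
      obtain ⟨v, hv, ov, hbv⟩ := hfQ.exists_prime h.hQ
      have hX : ∀ {U : Subgroup G} {t : ℕ}, Fact t.Prime → t ∈ τ → t ≠ r → t ≠ s → IsPGroup t U →
          ¬ Fix (U ⊓ centralizer ({b} : Set G)) a := fun ht mt htr hts hU hf => by
        obtain ⟨c, hc, oc, hac⟩ := hf.exists_prime (hU.to_le inf_le_left)
        exact h.noTriple _ mt r h.mr s h.ms htr h.nrs hts c a b oc oa ob hac.symm hba.symm
          (mem_centralizer_singleton_iff.1 hc.2)
      have hn : Q ⊓ centralizer ({b} : Set G) ≤ normalizer ((P ⊓ centralizer ({b} : Set G) : Subgroup G) : Set G) :=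
        fun c hc => mem_normalizer_inf_centralizer (h.nPQ hc.1) (mem_centralizer_singleton_iff.1 hc.2)
      have huv := commute_of_fpf h.npq (h.hP.to_le inf_le_left) (h.hQ.to_le inf_le_left) hn oa
        (mem_normalizer_inf_centralizer (h.nP haK) hba.symm) (mem_normalizer_inf_centralizer (h.nQ haK) hba.symm)
        (hX inferInstance h.mp h.npr h.nps h.hP) (hX inferInstance h.mq h.nqr h.nqs h.hQ)
        (u := u) (v := v) ⟨hu, mem_centralizer_singleton_iff.2 hbu.symm.eq⟩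
        ⟨hv, mem_centralizer_singleton_iff.2 hbv.symm.eq⟩
      exact h.noTriple p h.mp q h.mq s h.ms h.npq h.nqs h.nps u v b ou ov ob huv hbv.symm hbu.symm
    have hwQ : ∀ v ∈ Q, Commute w v := fun v hv => hwe ▸ (commutator_centralizes h.nqr h.nrs h.hQ hYr hYc
      (hYK.trans h.nQ) ob (h.nQ hb) hbY hfQ hy' hv).symm
    have hw1 := eq_one_of_pow_commute h.nrs hYr ob (hDY hw) (hbc w (hY (hDY hw)) ow hwQ).symm hrel
    exact (h.prime r h.mr).one_lt.ne (by rw [← ow, hw1, orderOf_one])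
  · exact h.faith w (Or.inr (Or.inl ow)) fun u hu => hwe ▸ (commutator_centralizes h.npr h.nrs h.hP hYr hYc
      (hYK.trans h.nP) ob (h.nP hb) hbY hfP hy' hu).symm

theorem only_false (hR : pCoreOf r K ≠ ⊥) (hS : pCoreOf s K = ⊥) : False := by
  haveI : Fact r.Prime := ⟨h.prime r h.mr⟩
  haveI : Fact s.Prime := ⟨h.prime s h.ms⟩
  obtain ⟨x, y, b, a, hxy, hx, hy, hb, ob, ha, oa, hba, hbc⟩ := h.exists_partner hR
  have hbK : b ∈ K := hxy.mem_of_mem hx hy hb
  set R := pCoreOf r K with hRdef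
  have hnR : K ≤ normalizer (R : Set G) := LocalEven.le_normalizer_pCoreOf r K
  have hRK : R ≤ K := LocalEven.pCoreOf_le r K
  have hcen : ∀ {v : G}, v ∈ omegaZ r R → Commute b v := fun hv =>
    h.centralizes hbK ob ha oa hba hbc (omegaZ_le r R) (fun u hu w hw => hu.2.2 w hw.1)
      (mem_normalizer_omegaZ r R (hnR hbK)) hv
  obtain ⟨a1, ha1, oa1⟩ := exists_omegaZ (LocalEven.isPGroup_pCoreOf r K) hR
  have hle : ∀ z ∈ omegaZ r R, orderOf z = r → z ∈ zpowers a1 := by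
    intro z hz oz
    by_contra hza
    exact h.star hbK ob ⟨oa1, oz, ha1.2.2 z hz.1, hza⟩ (hRK ha1.1) (hRK hz.1) (hcen ha1) (hcen hz)
  have hn1 : ∀ g ∈ K, g ∈ normalizer (zpowers a1 : Set G) := fun g hg =>
    mem_normalizer_zpowers ha1 oa1 hle (mem_normalizer_omegaZ r R (hnR hg))
  by_cases hr2 : r = 2
  · exact h.symm_rs.star (hRK ha1.1) oa1 hxy hx hy (commute_of_two (oa1.trans hr2) (hn1 x hx)).symm
      (commute_of_two (oa1.trans hr2) (hn1 y hy)).symm
  have hbR : ∀ v ∈ R, Commute b v := by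
    refine hxy.le_centralizer h.nrs (LocalEven.isPGroup_pCoreOf r K) (hnR hx) (hnR hy) fun e he oe v hv => ?_
    haveI : IsCyclic ↥(R ⊓ centralizer ({e} : Set G)) := isCyclic_of_no_pair hr2
      ((LocalEven.isPGroup_pCoreOf r K).to_le inf_le_left) fun u hu w hw huw =>
        h.star (hxy.mem_of_mem hx hy he) oe huw (hRK hu.1) (hRK hw.1)
          (mem_centralizer_singleton_iff.1 hu.2).symm (mem_centralizer_singleton_iff.1 hw.2).symm
    exact h.centralizes hbK ob ha oa hba hbc inf_le_left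
      (fun u hu w hw => congrArg Subtype.val
        ((IsCyclic.commutative (α := ↥(R ⊓ centralizer ({e} : Set G)))).is_comm.comm ⟨u, hu⟩ ⟨w, hw⟩))
      (mem_normalizer_inf_centralizer (hnR hbK) (hxy.closure_props.1 b hb e he)) hv
  have hm := mem_core_of_centralizes h.solK hbK ob fun t ht htd c hc => by
    rcases h.divK t ht htd with rfl | rfl
    · exact hbR c hc
    · rw [hS, mem_bot] at hc
      exact hc ▸ Commute.one_right _
  rw [hS, mem_bot] at hm
  exact (h.prime s h.ms).one_lt.ne (by rw [← ob, hm, orderOf_one])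

theorem false' (hK : K ≠ ⊥) : False := by
  obtain ⟨t, ht, htd, htne⟩ := exists_pCoreOf_ne_bot h.solK hK
  by_cases hR : pCoreOf r K = ⊥
  · rcases h.divK t ht htd with rfl | rfl
    · exact htne hR
    · exact h.symm_rs.only_false htne hR
  by_cases hS : pCoreOf s K = ⊥
  · exact h.only_false hR hS
  rcases lt_or_gt_of_ne h.nrs with hlt | hlt
  · exact h.symm_rs.both_false_of_lt hlt hS hR
  · exact h.both_false_of_lt hlt hR hS

end Single

/-- A solvable group with pairs for all its primes and no central involution has a pair inside a core. -/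
theorem exists_pair_core {L : Subgroup G} (hL : Group.IsSolvable L) (hL1 : L ≠ ⊥)
    (hpair : ∀ t : ℕ, t.Prime → t ∣ Nat.card L → ∃ x ∈ L, ∃ y ∈ L, Pair2 t x y)
    (hz : ∀ z ∈ L, orderOf z = 2 → ∃ g ∈ L, ¬ Commute g z) :
    ∃ t : ℕ, t.Prime ∧ ∃ x ∈ pCoreOf t L, ∃ y ∈ pCoreOf t L, Pair2 t x y := by
  classical
  by_contra hno
  push Not at hno
  have hcyc : ∀ t : ℕ, t.Prime → IsCyclic (pCoreOf t L) := fun t ht => by
    haveI : Fact t.Prime := ⟨ht⟩
    by_cases ht2 : t = 2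
    · subst ht2
      by_cases hne : pCoreOf 2 L = ⊥
      · rw [hne]; infer_instance
      obtain ⟨a, ha, oa, hu⟩ := exists_unique_order (LocalEven.isPGroup_pCoreOf 2 L) hne (hno 2 ht)
      obtain ⟨g, hg, hga⟩ := hz a (LocalEven.pCoreOf_le 2 L ha) oa
      exact absurd (commute_of_two oa (mem_normalizer_zpowers ha oa hu (LocalEven.le_normalizer_pCoreOf 2 L hg))) hga
    · exact isCyclic_of_no_pair ht2 (LocalEven.isPGroup_pCoreOf t L) (hno t ht)
  set T := (Nat.card L).primeFactors.filter fun t => pCoreOf t L ≠ ⊥ with hTdef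
  have hTne : T.Nonempty := by
    obtain ⟨t, ht, htd, htne⟩ := exists_pCoreOf_ne_bot hL hL1
    exact ⟨t, Finset.mem_filter.2 ⟨Nat.mem_primeFactors.2 ⟨ht, htd, Nat.card_pos.ne'⟩, htne⟩⟩
  set t := T.max' hTne
  have htm := Finset.mem_filter.1 (T.max'_mem hTne)
  have htp : t.Prime := Nat.prime_of_mem_primeFactors htm.1
  haveI : Fact t.Prime := ⟨htp⟩
  obtain ⟨x, hx, y, hy, hxy⟩ := hpair t htp (Nat.dvd_of_mem_primeFactors htm.1)
  suffices hmem : ∀ e ∈ L, orderOf e = t → e ∈ pCoreOf t L from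
    hno t htp x (hmem x hx hxy.ox) y (hmem y hy hxy.oy) hxy
  intro e he oe
  have hecom : ∀ u : ℕ, u.Prime → u ≠ t → ∀ c ∈ pCoreOf u L, Commute e c := by
    intro u hu hut c hc
    haveI : Fact u.Prime := ⟨hu⟩
    by_cases hne : pCoreOf u L = ⊥
    · rw [hne, mem_bot] at hc
      exact hc ▸ Commute.one_right _
    have hud : u ∣ Nat.card L := by_contra fun hd => hne (pCoreOf_eq_bot_of_not_dvd hd)
    have hle : u ≤ t := T.le_max' u (Finset.mem_filter.2 ⟨Nat.mem_primeFactors.2 ⟨hu, hud, Nat.card_pos.ne'⟩, hne⟩)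
    obtain ⟨a, ha, oa, hua⟩ := exists_unique_order (LocalEven.isPGroup_pCoreOf u L) hne (hno u hu)
    exact commute_of_cyclic hut (LocalEven.isPGroup_pCoreOf u L) (hcyc u hu) oe
      (LocalEven.le_normalizer_pCoreOf u L he) ha oa
      (commute_of_prime_lt (lt_of_le_of_ne hle hut) oa oe
        (mem_normalizer_zpowers ha oa hua (LocalEven.le_normalizer_pCoreOf u L he))) c hc
  set F := (fittingSubgroup L).map L.subtype with hF
  set N := zpowers e ⊔ F with hN
  set W := zpowers e ⊔ pCoreOf t L with hW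
  have hFL : F ≤ L := map_subtype_le _
  have hNL : N ≤ L := sup_le (zpowers_le.2 he) hFL
  have hcomm : ∀ g ∈ L, g * e * g⁻¹ * e⁻¹ ∈ F := by
    intro g hg
    refine ⟨⁅(⟨g, hg⟩ : L), ⟨e, he⟩⁆, Solvable.centralizer_fittingSubgroup_le ?_, rfl⟩
    have hle : fittingSubgroup ↥L ≤ centralizer {⁅(⟨g, hg⟩ : L), ⟨e, he⟩⁆} := by
      rw [Cores.fittingSubgroup_eq_iSup_pCore]
      refine iSup_le fun u => ?_
      haveI : Fact (u : ℕ).Prime := ⟨Nat.prime_of_mem_primeFactors u.2⟩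
      have hn : (pCore (u : ℕ) L).Normal := Subgroup.sSup_normal _ fun N hN => hN.1
      haveI : IsCyclic ((pCore (u : ℕ) L).map L.subtype) := hcyc u Fact.out
      have hc : IsCyclic (pCore (u : ℕ) L) := isCyclic_of_surjective
        ((pCore (u : ℕ) L).equivMapOfInjective L.subtype L.subtype_injective).symm
        ((pCore (u : ℕ) L).equivMapOfInjective L.subtype L.subtype_injective).symm.surjective
      intro z hz
      exact mem_centralizer_singleton_iff.2
        (mem_centralizer_iff.1 (PGroup.ConjAb.comm_mem_centralizer_of_cyclic hn hc _ _) z hz)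
    exact mem_centralizer_iff.2 fun z hz => mem_centralizer_singleton_iff.1 (hle hz)
  have hFn : L ≤ normalizer (F : Set G) := fun g hg => by
    refine mem_normalizer_fintype (S := (F : Set G)) ?_
    rintro _ ⟨z, hz, rfl⟩
    exact ⟨_, (Cores.fittingSubgroup_normal (G := L)).conj_mem z hz ⟨g, hg⟩, rfl⟩
  have hNn : L ≤ normalizer (N : Set G) := fun g hg => by
    refine mem_normalizer_fintype (S := (N : Set G)) fun z hz => ?_
    have hmap : N.map (MulAut.conj g).toMonoidHom ≤ N := by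
      rw [hN, Subgroup.map_sup]
      refine sup_le ?_ ?_
      · rw [MonoidHom.map_zpowers, zpowers_le]
        change g * e * g⁻¹ ∈ _
        rw [← inv_mul_cancel_right (g * e * g⁻¹) e]
        exact mul_mem (mem_sup_right (hcomm g hg)) (mem_sup_left (mem_zpowers e))
      · rintro _ ⟨c, hc, rfl⟩
        exact mem_sup_right ((mem_normalizer_iff.1 (hFn hg) c).1 hc)
    exact hmap ⟨z, hz, rfl⟩
  have hWN : W ≤ N := sup_le le_sup_left ((map_mono (Cores.pCore_le_fittingSubgroup t)).trans le_sup_right)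
  have hWt : IsPGroup t W := (IsPGroup.of_card (n := 1) (by rw [Nat.card_zpowers, oe, pow_one]) :
      IsPGroup t (zpowers e)).to_sup_of_normal_right' (LocalEven.isPGroup_pCoreOf t L)
    (zpowers_le.2 (LocalEven.le_normalizer_pCoreOf t L he))
  have hWn : N ≤ normalizer (W : Set G) := by
    refine sup_le ((le_sup_left : zpowers e ≤ W).trans le_normalizer) ?_
    rw [hF, Cores.fittingSubgroup_eq_iSup_pCore, Subgroup.map_iSup]
    refine iSup_le fun u => ?_
    change pCoreOf (u : ℕ) L ≤ _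
    by_cases hut : (u : ℕ) = t
    · rw [hut]; exact (le_sup_right : pCoreOf t L ≤ W).trans le_normalizer
    haveI : Fact (u : ℕ).Prime := ⟨Nat.prime_of_mem_primeFactors u.2⟩
    intro c hc
    have hcW : W ≤ centralizer ({c} : Set G) := sup_le
      (zpowers_le.2 (mem_centralizer_singleton_iff.2 (hecom u Fact.out hut c hc).eq))
      fun w hw => mem_centralizer_singleton_iff.2 (Signalizer.commute_pCoreOf hut hc hw).symm.eq
    refine mem_normalizer_fintype (S := (W : Set G)) fun w hw => ?_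
    rw [← mem_centralizer_singleton_iff.1 (hcW hw), mul_inv_cancel_right]
    exact hw
  exact Signalizer.normalizer_le_normalizer_sylow_part hNL hNn
    (LocalEven.le_pCoreOf hWN hWt hWn (mem_sup_left (mem_zpowers e)))

end CfsgLib.FGS.NoTriangle
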