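/-
The case of two nontrivial cores.
-/
import Cfsg.Agent.Lib.FGS.NoTriangle.Pairs

set_option autoImplicit false

namespace CfsgLib.FGS.NoTriangle

open Subgroup Cfsg
open scoped commutatorElement

universe u

variable {G : Type u} [Group G] [Finite G]

/-- `P` and `Q` are commuting subgroups for `p` and `q`, normalised by the `{r,s}`-group `K`, which acts
faithfully on them. -/
structure Twin (τ : Finset ℕ) (p q r s : ℕ) (P Q K : Subgroup G) : Prop where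
  noTriple : NoTriple G τ
  prime : ∀ t ∈ τ, t.Prime
  mp : p ∈ τ
  mq : q ∈ τ
  mr : r ∈ τ
  ms : s ∈ τ
  npq : p ≠ q
  npr : p ≠ r
  nps : p ≠ s
  nqr : q ≠ r
  nqs : q ≠ s
  nrs : r ≠ s
  hP : IsPGroup p P
  hQ : IsPGroup q Q
  neP : P ≠ ⊥
  neQ : Q ≠ ⊥
  comm : ∀ u ∈ P, ∀ v ∈ Q, Commute u v
  nP : K ≤ normalizer (P : Set G)
  nQ : K ≤ normalizer (Q : Set G)
  solK : Group.IsSolvable K
  divK : ∀ t : ℕ, t.Prime → t ∣ Nat.card K → t = r ∨ t = s
  faith : ∀ x ∈ K, orderOf x = r ∨ orderOf x = s → (∀ u ∈ P, Commute x u) → (∀ v ∈ Q, Commute x v) → False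
  pairR : ∃ R : Subgroup G, R ≤ K ∧ IsPGroup r R ∧ pCoreOf r K ≤ R ∧ ∃ x ∈ R, ∃ y ∈ R, Pair2 r x y
  pairS : ∃ S : Subgroup G, S ≤ K ∧ IsPGroup s S ∧ pCoreOf s K ≤ S ∧ ∃ x ∈ S, ∃ y ∈ S, Pair2 s x y

/-- A pair with all translates of `f` conjugate fixes a point with `f` if `a` fixes none. -/
theorem fix_of_translates {t r : ℕ} [ht : Fact t.Prime] [hr : Fact r.Prime] (htr : t ≠ r) {U : Subgroup G}
    (hU : IsPGroup t U) (hU1 : U ≠ ⊥) {a f : G} (h : Pair2 r a f) (ha : a ∈ normalizer (U : Set G))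
    (hf : f ∈ normalizer (U : Set G)) (hfa : ¬ Fix U a)
    (htr' : ∀ m : ℤ, ∃ y ∈ normalizer (U : Set G), y * f * y⁻¹ = a ^ m * f) : Fix U f := by
  obtain ⟨e, he, oe, hfe⟩ := h.exists_fix htr hU hU1 ha hf
  obtain ⟨i, j, rfl⟩ := h.exists_zpow_mul he
  have hj : ¬ (r : ℤ) ∣ j := fun hd => by
    have hfj : f ^ j = 1 := orderOf_dvd_iff_zpow_eq_one.1 (by rw [h.oy]; exact hd)
    rw [hfj, mul_one] at hfe oe
    exact hfa (hfe.of_mem_zpowers (zpowers_eq_of_mem (zpow_mem (mem_zpowers a) i) oe h.ox ▸ mem_zpowers a))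
  obtain ⟨c, d, hcd⟩ := (Nat.prime_iff_prime_int.1 hr.out).coprime_iff_not_dvd.2 hj
  have hfd : f ^ (j * d) = f := by
    have h1 : f ^ (c * (r : ℤ)) = 1 := orderOf_dvd_iff_zpow_eq_one.1 (by rw [h.oy]; exact dvd_mul_left _ _)
    rw [show j * d = 1 + -(c * (r : ℤ)) by linarith [hcd, mul_comm j d], zpow_add, zpow_one, zpow_neg, h1,
      inv_one, mul_one]
  have hmem : a ^ (i * d) * f ∈ zpowers (a ^ i * f ^ j) := ⟨d, by
    change (a ^ i * f ^ j) ^ d = _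
    rw [((h.comm.zpow_zpow i j)).mul_zpow, ← zpow_mul, ← zpow_mul, hfd]⟩
  obtain ⟨y, hy, hyf⟩ := htr' (i * d)
  have := (hfe.of_mem_zpowers (hyf.symm ▸ hmem)).conj (inv_mem hy)
  simpa [mul_assoc] using this

namespace Twin

variable {τ : Finset ℕ} {p q r s : ℕ} {P Q K : Subgroup G} (h : Twin τ p q r s P Q K)

include h

theorem symm_rs : Twin τ p q s r P Q K where
  noTriple := h.noTriple
  prime := h.prime
  mp := h.mp
  mq := h.mq
  mr := h.ms
  ms := h.mr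
  npq := h.npq
  npr := h.nps
  nps := h.npr
  nqr := h.nqs
  nqs := h.nqr
  nrs := h.nrs.symm
  hP := h.hP
  hQ := h.hQ
  neP := h.neP
  neQ := h.neQ
  comm := h.comm
  nP := h.nP
  nQ := h.nQ
  solK := h.solK
  divK t ht hd := (h.divK t ht hd).symm
  faith x hx ho := h.faith x hx ho.symm
  pairR := h.pairS
  pairS := h.pairR

theorem symm_pq : Twin τ q p r s Q P K where
  noTriple := h.noTriple
  prime := h.prime
  mp := h.mq
  mq := h.mp
  mr := h.mr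
  ms := h.ms
  npq := h.npq.symm
  npr := h.nqr
  nps := h.nqs
  nqr := h.npr
  nqs := h.nps
  nrs := h.nrs
  hP := h.hQ
  hQ := h.hP
  neP := h.neQ
  neQ := h.neP
  comm u hu v hv := (h.comm v hv u hu).symm
  nP := h.nQ
  nQ := h.nP
  solK := h.solK
  divK := h.divK
  faith x hx ho h1 h2 := h.faith x hx ho h2 h1
  pairR := h.pairR
  pairS := h.pairS

theorem fix_both {x : G} (ox : orderOf x = r) (hP : Fix P x) (hQ : Fix Q x) : False := by
  haveI : Fact p.Prime := ⟨h.prime p h.mp⟩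
  haveI : Fact q.Prime := ⟨h.prime q h.mq⟩
  obtain ⟨w, hw, ow, hxw⟩ := hP.exists_prime h.hP
  obtain ⟨v, hv, ov, hxv⟩ := hQ.exists_prime h.hQ
  exact h.noTriple p h.mp q h.mq r h.mr h.npq h.nqr h.npr w v x ow ov ox (h.comm w hw v hv) hxv.symm hxw.symm

theorem eq_one_of_centralizes {e : G} (he : e ∈ pCoreOf r K) (heQ : ∀ v ∈ Q, Commute e v) : e = 1 := by
  haveI : Fact p.Prime := ⟨h.prime p h.mp⟩
  haveI : Fact q.Prime := ⟨h.prime q h.mq⟩
  haveI : Fact r.Prime := ⟨h.prime r h.mr⟩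
  haveI : Fact s.Prime := ⟨h.prime s h.ms⟩
  by_contra he1
  set C := pCoreOf r K ⊓ centralizer (Q : Set G) with hC
  have hCr : IsPGroup r C := (LocalEven.isPGroup_pCoreOf r K).to_le inf_le_left
  have hCK : C ≤ K := inf_le_left.trans (LocalEven.pCoreOf_le r K)
  have hCQ : ∀ c ∈ C, ∀ v ∈ Q, Commute c v := fun c hc v hv => (mem_centralizer_iff.1 hc.2 v hv).symm
  have hC1 : C ≠ ⊥ := fun e' => he1 (mem_bot.1 (e' ▸
    (⟨he, mem_centralizer_iff.2 fun v hv => (heQ v hv).symm.eq⟩ : e ∈ C)))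
  have hnf : ∀ c ∈ C, orderOf c = r → ¬ Fix P c := fun c hc oc hf =>
    h.fix_both oc hf (fix_of_centralizes h.neQ (hCQ c hc))
  have hno : ∀ x ∈ C, ∀ y ∈ C, ¬ Pair2 r x y := fun x hx y hy hxy => by
    obtain ⟨e', he', oe', hf⟩ := hxy.exists_fix h.npr h.hP h.neP (h.nP (hCK hx)) (h.nP (hCK hy))
    exact hnf e' (hxy.mem_of_mem hx hy he') oe' hf
  obtain ⟨a, ha, oa, hu⟩ := exists_unique_order hCr hC1 hno
  have hna : ∀ g ∈ K, g ∈ normalizer (zpowers a : Set G) := fun g hg => by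
    refine mem_normalizer_zpowers ha oa hu (mem_normalizer_fintype (S := (C : Set G)) fun c hc => ?_)
    refine ⟨(mem_normalizer_iff.1 (LocalEven.le_normalizer_pCoreOf r K hg) c).1 hc.1,
      mem_centralizer_iff.2 fun v hv => ?_⟩
    have hv' : g⁻¹ * v * g ∈ Q := by simpa using (mem_normalizer_iff.1 (inv_mem (h.nQ hg)) v).1 hv
    have h1 : g⁻¹ * v * g * c = c * (g⁻¹ * v * g) := mem_centralizer_iff.1 hc.2 _ hv'
    calc v * (g * c * g⁻¹) = g * (g⁻¹ * v * g * c) * g⁻¹ := by group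
      _ = g * (c * (g⁻¹ * v * g)) * g⁻¹ := by rw [h1]
      _ = g * c * g⁻¹ * v := by group
  have hfb : ∀ b ∈ K, orderOf b = s → ¬ Fix Q b := by
    intro b hb ob hfQ
    by_cases hba : Commute b a
    · obtain ⟨w, hw, ow, hbw⟩ := hfQ.exists_prime h.hQ
      exact h.noTriple q h.mq r h.mr s h.ms h.nqr h.nrs h.nqs w a b ow oa ob (hCQ a ha w hw).symm hba.symm
        hbw.symm
    · have hnP : ¬ Fix P b := fun hf => h.symm_rs.fix_both ob hf hfQ
      have hbY := hna b hb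
      have hd : ⁅b, a⁆ ∈ zpowers a := by
        rw [commutatorElement_def]
        exact mul_mem ((mem_normalizer_iff.1 hbY a).1 (mem_zpowers a)) (inv_mem (mem_zpowers a))
      have hd1 : ⁅b, a⁆ ≠ 1 := fun e' => hba (commutatorElement_eq_one_iff_mul_comm.1 e')
      have hdo : orderOf ⁅b, a⁆ = r := by
        obtain ⟨i, hi⟩ := mem_zpowers_iff.1 hd
        refine orderOf_eq_prime ?_ hd1
        rw [← hi, ← zpow_natCast, ← zpow_mul, mul_comm, zpow_mul, zpow_natCast, ← oa, pow_orderOf_eq_one,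
          one_zpow]
      have haP : ∀ u ∈ P, Commute a u := fun u hu' => by
        have hcu : Commute ⁅b, a⁆ u := (commutator_centralizes h.npr h.nrs h.hP
          (Y := zpowers a) (IsPGroup.of_card (n := 1) (by rw [Nat.card_zpowers, oa, pow_one]))
          (fun x hx y hy => by
            obtain ⟨i, rfl⟩ := mem_zpowers_iff.1 hx
            obtain ⟨j, rfl⟩ := mem_zpowers_iff.1 hy
            exact (Commute.zpow_zpow (Commute.refl a) i j).eq)
          (zpowers_le.2 (h.nP (hCK ha))) ob (h.nP hb) hbY hnP (mem_zpowers a) hu').symm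
        obtain ⟨i, hi⟩ := mem_zpowers_iff.1 ((zpowers_eq_of_mem hd hdo oa).symm ▸ mem_zpowers a)
        exact hi ▸ hcu.zpow_left i
      exact h.faith a (hCK ha) (Or.inl oa) haP (hCQ a ha)
  obtain ⟨S, hSK, -, -, x, hx, y, hy, hxy⟩ := h.pairS
  obtain ⟨e', he', oe', hf⟩ := hxy.exists_fix h.nqs h.hQ h.neQ (h.nQ (hSK hx)) (h.nQ (hSK hy))
  exact hfb e' (hSK (hxy.mem_of_mem hx hy he')) oe' hf

theorem centralizes_of_not_fix {b : G} (hb : b ∈ K) (ob : orderOf b = s) (hfQ : ¬ Fix Q b) {Y : Subgroup G}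
    (hY : Y ≤ pCoreOf r K) (hYc : ∀ x ∈ Y, ∀ y ∈ Y, x * y = y * x) (hbY : b ∈ normalizer (Y : Set G))
    {y : G} (hy : y ∈ Y) : Commute b y := by
  haveI : Fact q.Prime := ⟨h.prime q h.mq⟩
  haveI : Fact r.Prime := ⟨h.prime r h.mr⟩
  haveI : Fact s.Prime := ⟨h.prime s h.ms⟩
  have hd : ⁅b, y⁆ ∈ Y := by
    rw [commutatorElement_def]
    exact mul_mem ((mem_normalizer_iff.1 hbY y).1 hy) (inv_mem hy)
  have hc : ∀ v ∈ Q, Commute ⁅b, y⁆ v := fun v hv => (commutator_centralizes h.nqr h.nrs h.hQ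
    ((LocalEven.isPGroup_pCoreOf r K).to_le hY) hYc ((hY.trans (LocalEven.pCoreOf_le r K)).trans h.nQ) ob
    (h.nQ hb) hbY hfQ hy hv).symm
  exact commutatorElement_eq_one_iff_mul_comm.1 (h.eq_one_of_centralizes (hY hd) hc)

theorem centralizes_abelian {b : G} (hb : b ∈ K) (ob : orderOf b = s) {Y : Subgroup G}
    (hY : Y ≤ pCoreOf r K) (hYc : ∀ x ∈ Y, ∀ y ∈ Y, x * y = y * x) (hbY : b ∈ normalizer (Y : Set G))
    {y : G} (hy : y ∈ Y) : Commute b y := by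
  by_cases hfQ : Fix Q b
  · exact h.symm_pq.centralizes_of_not_fix hb ob (fun hf => h.symm_rs.fix_both ob hf hfQ) hY hYc hbY hy
  · exact h.centralizes_of_not_fix hb ob hfQ hY hYc hbY hy

theorem not_fix_omega {a : G} (ha : a ∈ omegaZ r (pCoreOf r K)) (oa : orderOf a = r) : ¬ Fix P a := by
  haveI : Fact p.Prime := ⟨h.prime p h.mp⟩
  haveI : Fact s.Prime := ⟨h.prime s h.ms⟩
  intro hf
  obtain ⟨S, hSK, -, -, x, hx, y, hy, hxy⟩ := h.pairS
  have hcom : ∀ b ∈ K, orderOf b = s → Commute b a := fun b hb ob =>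
    h.centralizes_abelian hb ob (omegaZ_le r _) (fun u hu v hv => hu.2.2 v hv.1)
      (mem_normalizer_omegaZ r _ (LocalEven.le_normalizer_pCoreOf r K hb)) ha
  exact hxy.triple h.noTriple h.mp h.ms h.mr h.nps h.npr h.nrs.symm h.hP oa hf (h.nP (hSK hx)) (h.nP (hSK hy))
    (hcom x (hSK hx) hxy.ox).symm (hcom y (hSK hy) hxy.oy).symm

theorem exists_omega (hR : pCoreOf r K ≠ ⊥) :
    ∃ a ∈ omegaZ r (pCoreOf r K), orderOf a = r ∧ omegaZ r (pCoreOf r K) ≤ zpowers a ∧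
      ¬ Fix P a ∧ ¬ Fix Q a := by
  haveI : Fact p.Prime := ⟨h.prime p h.mp⟩
  haveI : Fact r.Prime := ⟨h.prime r h.mr⟩
  obtain ⟨a, ha, oa⟩ := exists_omegaZ (LocalEven.isPGroup_pCoreOf r K) hR
  refine ⟨a, ha, oa, fun x hx => ?_, h.not_fix_omega ha oa, h.symm_pq.not_fix_omega ha oa⟩
  by_contra hxa
  have hx1 : x ≠ 1 := fun e => hxa (e ▸ one_mem _)
  have hxy : Pair2 r a x := ⟨oa, orderOf_eq_prime hx.2.1 hx1, ha.2.2 x hx.1, hxa⟩
  have hK : ∀ {z : G}, z ∈ omegaZ r (pCoreOf r K) → z ∈ normalizer (P : Set G) := fun hz =>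
    h.nP (LocalEven.pCoreOf_le r K hz.1)
  obtain ⟨e, he, oe, hf⟩ := hxy.exists_fix h.npr h.hP h.neP (hK ha) (hK hx)
  exact h.not_fix_omega (hxy.mem_of_mem ha hx he) oe hf

theorem conj_false {R : Subgroup G} (hRK : R ≤ K) (hR : IsPGroup r R) {a : G} (ha : a ∈ omegaZ r R)
    (oa : orderOf a = r) (hle : omegaZ r R ≤ zpowers a) (hfP : ¬ Fix P a) (hfQ : ¬ Fix Q a) {x : G}
    (hx : x ∈ R) (ox : orderOf x = r) (hxa : x ∉ zpowers a) : False := by
  haveI : Fact p.Prime := ⟨h.prime p h.mp⟩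
  haveI : Fact q.Prime := ⟨h.prime q h.mq⟩
  haveI : Fact r.Prime := ⟨h.prime r h.mr⟩
  obtain ⟨f, hf, hpair, htr⟩ := exists_conj_translates hR ha oa hle hx ox hxa
  refine h.fix_both hpair.oy ?_ ?_
  · exact fix_of_translates h.npr h.hP h.neP hpair (h.nP (hRK ha.1)) (h.nP (hRK hf)) hfP fun m =>
      (htr m).imp fun y hy => ⟨h.nP (hRK hy.1), hy.2⟩
  · exact fix_of_translates h.nqr h.hQ h.neQ hpair (h.nQ (hRK ha.1)) (h.nQ (hRK hf)) hfQ fun m =>
      (htr m).imp fun y hy => ⟨h.nQ (hRK hy.1), hy.2⟩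

theorem cyclic_core (hs2 : s ≠ 2) : IsCyclic (pCoreOf s K) := by
  haveI : Fact s.Prime := ⟨h.prime s h.ms⟩
  refine isCyclic_of_no_pair hs2 (LocalEven.isPGroup_pCoreOf s K) fun x hx y hy hxy => ?_
  have hne : pCoreOf s K ≠ ⊥ := fun e => by
    rw [e, mem_bot] at hx
    exact (h.prime s h.ms).one_lt.ne (by rw [← hxy.ox, hx, orderOf_one])
  obtain ⟨b, hb, ob, hle, hfP, hfQ⟩ := h.symm_rs.exists_omega hne
  obtain ⟨f, hf, hfo, hfb⟩ := hxy.exists_notMem hx hy ob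
  exact h.symm_rs.conj_false (LocalEven.pCoreOf_le s K) (LocalEven.isPGroup_pCoreOf s K) hb ob hle hfP hfQ hf
    hfo hfb

theorem false_of_core (hR : pCoreOf r K ≠ ⊥) (hS : pCoreOf s K = ⊥ ∨ s ≠ 2) : False := by
  haveI : Fact r.Prime := ⟨h.prime r h.mr⟩
  obtain ⟨a, ha, oa, hle, hfP, hfQ⟩ := h.exists_omega hR
  obtain ⟨R, hRK, hRp, hcore, x, hx, y, hy, hxy⟩ := h.pairR
  have hR1 : R ≠ ⊥ := ne_bot_of_le_ne_bot hR hcore
  have hle' : omegaZ r R ≤ zpowers a := by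
    intro z hz
    by_cases hz1 : z = 1
    · exact hz1 ▸ one_mem _
    have oz : orderOf z = r := orderOf_eq_prime hz.2.1 hz1
    refine hle ⟨mem_core_of_centralizes h.solK (hRK hz.1) oz fun t ht htd c hc => ?_, hz.2.1,
      fun c hc => hz.2.2 c (hcore hc)⟩
    rcases h.divK t ht htd with rfl | rfl
    · exact hz.2.2 c (hcore hc)
    · rcases hS with hS | hs2
      · rw [hS, mem_bot] at hc
        exact hc ▸ Commute.one_right _
      · exact h.symm_rs.centralizes_abelian (hRK hz.1) oz le_rfl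
          (fun u hu v hv => by
            haveI := h.cyclic_core hs2
            exact congrArg Subtype.val ((IsCyclic.commutative (α := pCoreOf t K)).is_comm.comm ⟨u, hu⟩ ⟨v, hv⟩))
          (LocalEven.le_normalizer_pCoreOf t K (hRK hz.1)) hc
  have ha' : a ∈ omegaZ r R := by
    obtain ⟨a1, ha1, oa1⟩ := exists_omegaZ hRp hR1
    exact (zpowers_le.2 ha1) ((zpowers_eq_of_mem (hle' ha1) oa1 oa).symm ▸ mem_zpowers a)
  obtain ⟨f, hf, hfo, hfa⟩ := hxy.exists_notMem hx hy oa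
  exact h.conj_false hRK hRp ha' oa hle' hfP hfQ hf hfo hfa

end Twin

end CfsgLib.FGS.NoTriangle
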