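/-
A solvable group cannot join four primes pairwise without joining three of them.
-/
import Cfsg.Agent.Lib.FGS.NoTriangle.Twin
import Cfsg.Agent.Lib.FGS.NoTriangle.Single

set_option autoImplicit false

namespace CfsgLib.FGS.NoTriangle

open Subgroup Cfsg

universe u

variable {G : Type u} [Group G] [Finite G] [Group.IsSolvable G]

theorem four {τ : Finset ℕ} (hprime : ∀ t ∈ τ, t.Prime) (hτ : τ.card = 4)
    (hdiv : ∀ t : ℕ, t.Prime → t ∣ Nat.card G → t ∈ τ)
    (hpairs : ∀ t ∈ τ, ∀ v ∈ τ, t ≠ v → ∃ x y : G, orderOf x = t ∧ orderOf y = v ∧ Commute x y)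
    (hT : NoTriple G τ) : False := by
  classical
  have htop : Group.IsSolvable (⊤ : Subgroup G) := inferInstance
  have hdivtop : ∀ t : ℕ, t.Prime → t ∣ Nat.card (⊤ : Subgroup G) → t ∈ τ := fun t ht hd =>
    hdiv t ht (by rwa [Subgroup.card_top] at hd)
  have hfull : ∀ {π : Set ℕ} {M : Subgroup G}, IsPiHallOf π M ⊤ → ∀ t ∈ τ, t ∈ π →
      ∃ R : Subgroup G, R ≤ M ∧ IsPGroup t R ∧ pCoreOf t M ≤ R ∧ ∃ x ∈ R, ∃ y ∈ R, Pair2 t x y := by
    intro π M hM t ht htπ
    haveI : Fact t.Prime := ⟨hprime t ht⟩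
    obtain ⟨x, y, hxy⟩ := exists_pair hprime hτ hpairs hT ht
    exact exists_pair_over_core hM htπ hxy
  have hne : ∀ {π : Set ℕ} {M : Subgroup G}, IsPiHallOf π M ⊤ → ∀ t ∈ τ, t ∈ π → M ≠ ⊥ := by
    intro π M hM t ht htπ e
    obtain ⟨R, hRM, -, -, x, hx, y, -, hxy⟩ := hfull hM t ht htπ
    have := hRM hx
    rw [e, mem_bot] at this
    exact (hprime t ht).one_lt.ne (by rw [← hxy.ox, this, orderOf_one])
  obtain ⟨t0, ht0⟩ := Finset.card_pos.1 (by omega : 0 < τ.card)
  have hG1 : (⊤ : Subgroup G) ≠ ⊥ := fun e => by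
    obtain ⟨x, y, hxy⟩ := exists_pair hprime hτ hpairs hT ht0
    have h1 : x ∈ (⊥ : Subgroup G) := e ▸ mem_top x
    rw [mem_bot] at h1
    exact (hprime t0 ht0).one_lt.ne (by rw [← hxy.ox, h1, orderOf_one])
  obtain ⟨p, hpp, hpd, hP⟩ := exists_pCoreOf_ne_bot htop hG1
  have mp := hdivtop p hpp hpd
  haveI : Fact p.Prime := ⟨hpp⟩
  have hnP : (⊤ : Subgroup G) ≤ normalizer (pCoreOf p (⊤ : Subgroup G) : Set G) :=
    LocalEven.le_normalizer_pCoreOf p ⊤
  have hord : ∀ {t : ℕ}, t ∈ τ → pCoreOf t (⊤ : Subgroup G) = ⊥ → ∀ x : G, orderOf x = t →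
      (∀ v : ℕ, v ∈ τ → ∀ c ∈ pCoreOf v (⊤ : Subgroup G), Commute x c) → False := by
    intro t ht hbot x ox hx
    haveI : Fact t.Prime := ⟨hprime t ht⟩
    have hm := mem_core_of_centralizes htop (mem_top x) ox fun v hv hvd c hc => hx v (hdivtop v hv hvd) c hc
    rw [hbot, mem_bot] at hm
    exact (hprime t ht).one_lt.ne (by rw [← ox, hm, orderOf_one])
  by_cases htwo : ∃ q ∈ τ, q ≠ p ∧ pCoreOf q (⊤ : Subgroup G) ≠ ⊥
  · obtain ⟨q, mq, hqp, hQ⟩ := htwo
    haveI : Fact q.Prime := ⟨hprime q mq⟩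
    have hc2 : ((τ.erase p).erase q).card = 2 := by
      rw [Finset.card_erase_of_mem (Finset.mem_erase.2 ⟨hqp, mq⟩), Finset.card_erase_of_mem mp, hτ]
    obtain ⟨r, s, hrs, hset⟩ := Finset.card_eq_two.1 hc2
    have hmem : ∀ t, t ∈ τ → t = p ∨ t = q ∨ t = r ∨ t = s := fun t ht => by
      by_contra hh
      push Not at hh
      have : t ∈ (τ.erase p).erase q := Finset.mem_erase.2 ⟨hh.2.1, Finset.mem_erase.2 ⟨hh.1, ht⟩⟩
      rw [hset, Finset.mem_insert, Finset.mem_singleton] at this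
      exact this.elim hh.2.2.1 hh.2.2.2
    have hr : r ∈ (τ.erase p).erase q := by rw [hset]; exact Finset.mem_insert_self _ _
    have hs : s ∈ (τ.erase p).erase q := by
      rw [hset]; exact Finset.mem_insert_of_mem (Finset.mem_singleton_self _)
    simp only [Finset.mem_erase] at hr hs
    obtain ⟨hrq, hrp, mr⟩ := hr
    obtain ⟨hsq, hsp, ms⟩ := hs
    have hbot : ∀ t ∈ τ, t ≠ p → t ≠ q → pCoreOf t (⊤ : Subgroup G) = ⊥ := by
      intro t mt htp htq
      by_contra hne'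
      haveI : Fact t.Prime := ⟨hprime t mt⟩
      obtain ⟨u, hu, ou⟩ := exists_omegaZ (LocalEven.isPGroup_pCoreOf p (⊤ : Subgroup G)) hP
      obtain ⟨v, hv, ov⟩ := exists_omegaZ (LocalEven.isPGroup_pCoreOf q (⊤ : Subgroup G)) hQ
      obtain ⟨w, hw, ow⟩ := exists_omegaZ (LocalEven.isPGroup_pCoreOf t (⊤ : Subgroup G)) hne'
      exact hT p mp q mq t mt (Ne.symm hqp) (Ne.symm htq) (Ne.symm htp) u v w ou ov ow
        (Signalizer.commute_pCoreOf (Ne.symm hqp) hu.1 hv.1) (Signalizer.commute_pCoreOf (Ne.symm htq) hv.1 hw.1)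
        (Signalizer.commute_pCoreOf (Ne.symm htp) hu.1 hw.1)
    obtain ⟨K, hK, -⟩ := OddLocal.Sec13.exists_hallOf_ge (π := ({r, s} : Set ℕ)) htop bot_le
      (OddLocal.Sec13.isPi_bot _)
    have hT' : Twin τ p q r s (pCoreOf p ⊤) (pCoreOf q ⊤) K :=
      { noTriple := hT, prime := hprime, mp := mp, mq := mq, mr := mr, ms := ms, npq := Ne.symm hqp
        npr := Ne.symm hrp, nps := Ne.symm hsp, nqr := Ne.symm hrq, nqs := Ne.symm hsq, nrs := hrs
        hP := LocalEven.isPGroup_pCoreOf p ⊤, hQ := LocalEven.isPGroup_pCoreOf q ⊤, neP := hP, neQ := hQ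
        comm := fun u hu v hv => Signalizer.commute_pCoreOf (Ne.symm hqp) hu hv
        nP := le_top.trans hnP, nQ := le_top.trans (LocalEven.le_normalizer_pCoreOf q ⊤)
        solK := inferInstance
        divK := fun t ht hd => by simpa using hK.2.1 t ht hd
        faith := fun x _ hx h1 h2 => by
          have hc : ∀ v : ℕ, v ∈ τ → ∀ c ∈ pCoreOf v (⊤ : Subgroup G), Commute x c := by
            intro v mv c hc
            by_cases hvp : v = p
            · exact h1 c (hvp ▸ hc)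
            by_cases hvq : v = q
            · exact h2 c (hvq ▸ hc)
            rw [hbot v mv hvp hvq, mem_bot] at hc
            exact hc ▸ Commute.one_right _
          rcases hx with hx | hx
          · exact hord mr (hbot r mr hrp hrq) x hx hc
          · exact hord ms (hbot s ms hsp hsq) x hx hc
        pairR := hfull hK r mr (Set.mem_insert r _)
        pairS := hfull hK s ms (Set.mem_insert_of_mem r (Set.mem_singleton s)) }
    obtain ⟨t, ht, htd, htne⟩ := exists_pCoreOf_ne_bot (inferInstance : Group.IsSolvable K)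
      (hne hK r mr (Set.mem_insert r _))
    by_cases hR : pCoreOf r K = ⊥
    · rcases hT'.divK t ht htd with rfl | rfl
      · exact htne hR
      · exact hT'.symm_rs.false_of_core htne (Or.inl hR)
    by_cases hs2 : s = 2
    · by_cases hS : pCoreOf s K = ⊥
      · exact hT'.false_of_core hR (Or.inl hS)
      · exact hT'.symm_rs.false_of_core hS (Or.inr fun e => hrs (e.trans hs2.symm))
    · exact hT'.false_of_core hR (Or.inr hs2)
  push Not at htwo
  obtain ⟨L, hL, -⟩ := OddLocal.Sec13.exists_hallOf_ge (π := (τ.erase p : Set ℕ)) htop bot_le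
    (OddLocal.Sec13.isPi_bot _)
  have hLdiv : ∀ t : ℕ, t.Prime → t ∣ Nat.card L → t ∈ τ.erase p := fun t ht hd => by
    simpa [and_comm] using hL.2.1 t ht hd
  have hmemL : ∀ t ∈ τ.erase p, t ∈ (τ.erase p : Set ℕ) := fun t ht => by simpa [and_comm] using ht
  have hfaith : ∀ x : G, ∀ t ∈ τ.erase p, orderOf x = t →
      (∀ u ∈ pCoreOf p (⊤ : Subgroup G), Commute x u) → False := by
    intro x t mt ox hx
    obtain ⟨htp, mt'⟩ := Finset.mem_erase.1 mt
    refine hord mt' (htwo t mt' htp) x ox fun v mv c hc => ?_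
    by_cases hvp : v = p
    · exact hx c (hvp ▸ hc)
    rw [htwo v mv hvp, mem_bot] at hc
    exact hc ▸ Commute.one_right _
  have hc3 : (τ.erase p).card = 3 := by rw [Finset.card_erase_of_mem mp, hτ]
  obtain ⟨l0, hl0⟩ := Finset.card_pos.1 (by omega : 0 < (τ.erase p).card)
  obtain ⟨q, hqp', x1, hx1, y1, hy1, hxy1⟩ := exists_pair_core (inferInstance : Group.IsSolvable L)
    (hne hL l0 (Finset.mem_of_mem_erase hl0) (hmemL l0 hl0))
    (fun t ht hd => by
      obtain ⟨R, hRL, -, -, x, hx, y, hy, hxy⟩ :=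
        hfull hL t (Finset.mem_of_mem_erase (hLdiv t ht hd)) (hmemL t (hLdiv t ht hd))
      exact ⟨x, hRL hx, y, hRL hy, hxy⟩)
    (fun z hz oz => by
      by_contra hzc
      push Not at hzc
      have m2 : (2 : ℕ) ∈ τ.erase p := hLdiv 2 Nat.prime_two (oz ▸ Subgroup.orderOf_dvd_natCard _ hz)
      obtain ⟨u, v, huv, hset⟩ := Finset.card_eq_two.1
        (by rw [Finset.card_erase_of_mem m2, hc3] : ((τ.erase p).erase 2).card = 2)
      have hu : u ∈ (τ.erase p).erase 2 := by rw [hset]; exact Finset.mem_insert_self _ _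
      have hv : v ∈ (τ.erase p).erase 2 := by
        rw [hset]; exact Finset.mem_insert_of_mem (Finset.mem_singleton_self _)
      obtain ⟨hu2, hu'⟩ := Finset.mem_erase.1 hu
      obtain ⟨hv2, hv'⟩ := Finset.mem_erase.1 hv
      have mu := Finset.mem_of_mem_erase hu'
      have mv := Finset.mem_of_mem_erase hv'
      obtain ⟨x, y, ox, oy, hxy⟩ := hpairs u mu v mv huv
      obtain ⟨x', hx', y', hy', ox', oy', hxy'⟩ := exists_commute_mem hL (hprime u mu) (hprime v mv)
        (hmemL u hu') (hmemL v hv') ox oy hxy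
      exact hT u mu v mv 2 (Finset.mem_of_mem_erase m2) huv hv2 hu2 x' y' z ox' oy' oz hxy' (hzc y' hy')
        (hzc x' hx'))
  haveI : Fact q.Prime := ⟨hqp'⟩
  have mqL : q ∈ τ.erase p :=
    hLdiv q hqp' (hxy1.ox ▸ Subgroup.orderOf_dvd_natCard _ (LocalEven.pCoreOf_le q L hx1))
  obtain ⟨hqp, mq⟩ := Finset.mem_erase.1 mqL
  obtain ⟨r, s, hrs, hset⟩ := Finset.card_eq_two.1
    (by rw [Finset.card_erase_of_mem mqL, hc3] : ((τ.erase p).erase q).card = 2)
  have hr : r ∈ (τ.erase p).erase q := by rw [hset]; exact Finset.mem_insert_self _ _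
  have hs : s ∈ (τ.erase p).erase q := by
    rw [hset]; exact Finset.mem_insert_of_mem (Finset.mem_singleton_self _)
  obtain ⟨hrq, hrL⟩ := Finset.mem_erase.1 hr
  obtain ⟨hsq, hsL⟩ := Finset.mem_erase.1 hs
  obtain ⟨hrp, mr⟩ := Finset.mem_erase.1 hrL
  obtain ⟨hsp, ms⟩ := Finset.mem_erase.1 hsL
  obtain ⟨K, hKL, -⟩ := OddLocal.Sec13.exists_hallOf_ge (π := ({r, s} : Set ℕ))
    (inferInstance : Group.IsSolvable L) bot_le (OddLocal.Sec13.isPi_bot _)
  have hK : IsPiHallOf ({r, s} : Set ℕ) K ⊤ := hallOf_trans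
    (Set.insert_subset (hmemL r hrL) (Set.singleton_subset_iff.2 (hmemL s hsL))) hKL hL
  refine (?_ : Single τ p q r s (pCoreOf p ⊤) (pCoreOf q L) K).false' (hne hK r mr (Set.mem_insert r _))
  exact
    { noTriple := hT, prime := hprime, mp := mp, mq := mq, mr := mr, ms := ms, npq := Ne.symm hqp
      npr := Ne.symm hrp, nps := Ne.symm hsp, nqr := Ne.symm hrq, nqs := Ne.symm hsq, nrs := hrs
      hP := LocalEven.isPGroup_pCoreOf p ⊤, hQ := LocalEven.isPGroup_pCoreOf q L
      nPQ := le_top.trans hnP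
      nP := le_top.trans hnP, nQ := hKL.1.trans (LocalEven.le_normalizer_pCoreOf q L)
      solK := inferInstance
      divK := fun t ht hd => by simpa using hK.2.1 t ht hd
      faith := fun x hx h1 => by
        rcases hx with hx | hx | hx
        · exact hfaith x q mqL hx h1
        · exact hfaith x r hrL hx h1
        · exact hfaith x s hsL hx h1
      pairQ := ⟨x1, hx1, y1, hy1, hxy1⟩
      pairR := hfull hK r mr (Set.mem_insert r _)
      pairS := hfull hK s ms (Set.mem_insert_of_mem r (Set.mem_singleton s)) }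

/-- Commuting elements whose orders are distinct primes multiply to an element of product order. -/
theorem orderOf_mul_three {H : Type*} [Group H] {p q r : ℕ} (hp : p.Prime) (hq : q.Prime) (hr : r.Prime)
    (hpq : p ≠ q) (hqr : q ≠ r) (hpr : p ≠ r) {x y w : H} (ox : orderOf x = p) (oy : orderOf y = q)
    (ow : orderOf w = r) (hxy : Commute x y) (hyw : Commute y w) (hxw : Commute x w) :
    orderOf (x * y * w) = p * q * r := by
  have h1 : orderOf (x * y) = p * q := by
    rw [hxy.orderOf_mul_eq_mul_orderOf_of_coprime (by rw [ox, oy]; exact (Nat.coprime_primes hp hq).2 hpq),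
      ox, oy]
  rw [(hxw.mul_left hyw).orderOf_mul_eq_mul_orderOf_of_coprime (by
    rw [h1, ow]
    exact Nat.Coprime.mul_left ((Nat.coprime_primes hp hr).2 hpr) ((Nat.coprime_primes hq hr).2 hqr)), h1, ow]

/-- Four primes joined pairwise but never triply force nonsolvability. -/
theorem not_isSolvable {G : Type u} [Group G] [Finite G] (σ : Finset ℕ) (hσ : 4 ≤ σ.card)
    (hprime : ∀ p ∈ σ, p.Prime) (h2 : ∀ p ∈ σ, ∀ q ∈ σ, p ≠ q → ∃ g : G, orderOf g = p * q)
    (h3 : ∀ p ∈ σ, ∀ q ∈ σ, ∀ r ∈ σ, p ≠ q → q ≠ r → p ≠ r → ∀ g : G, orderOf g ≠ p * q * r) :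
    ¬ Group.IsSolvable G := by
  intro hsol
  obtain ⟨τ, hτσ, hτ⟩ := Finset.exists_subset_card_eq hσ
  obtain ⟨H, hH, -⟩ := OddLocal.Sec13.exists_hallOf_ge (π := (τ : Set ℕ))
    (inferInstance : Group.IsSolvable (⊤ : Subgroup G)) bot_le (OddLocal.Sec13.isPi_bot _)
  refine four (G := H) (fun t ht => hprime t (hτσ ht)) hτ (fun t ht hd => by simpa using hH.2.1 t ht hd)
    (fun t ht v hv htv => ?_) ?_
  · obtain ⟨g, og⟩ := h2 t (hτσ ht) v (hτσ hv) htv
    have hg : orderOf g ≠ 0 := (orderOf_pos g).ne'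
    obtain ⟨x', hx', y', hy', ox, oy, hxy⟩ := exists_commute_mem hH (hprime t (hτσ ht)) (hprime v (hτσ hv))
      (Finset.mem_coe.2 ht) (Finset.mem_coe.2 hv) (x := g ^ v) (y := g ^ t)
      (by rw [orderOf_pow' g (hprime v (hτσ hv)).ne_zero, og, Nat.gcd_mul_left_left,
        Nat.mul_div_cancel _ (hprime v (hτσ hv)).pos])
      (by rw [orderOf_pow' g (hprime t (hτσ ht)).ne_zero, og, Nat.gcd_mul_right_left,
        Nat.mul_div_cancel_left _ (hprime t (hτσ ht)).pos])
      ((Commute.refl g).pow_pow v t)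
    exact ⟨⟨x', hx'⟩, ⟨y', hy'⟩, (Subgroup.orderOf_mk x' hx').trans ox, (Subgroup.orderOf_mk y' hy').trans oy,
      Subtype.ext hxy⟩
  · intro p hp q hq r hr hpq hqr hpr x y w ox oy ow hxy hyw hxw
    rw [← Subgroup.orderOf_coe] at ox oy ow
    exact h3 p (hτσ hp) q (hτσ hq) r (hτσ hr) hpq hqr hpr _
      (orderOf_mul_three (hprime p (hτσ hp)) (hprime q (hτσ hq)) (hprime r (hτσ hr)) hpq hqr hpr ox oy ow
        (hxy.map H.subtype) (hyw.map H.subtype) (hxw.map H.subtype))

end CfsgLib.FGS.NoTriangle
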